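import Cfsg.Agent.GL23Inv.Local
import Mathlib.GroupTheory.IndexNormal
import Mathlib.GroupTheory.Sylow
import Mathlib.GroupTheory.GroupAction.Quotient

/-!
# Small general facts used in the recognition of `PSL(3,3)`
-/

set_option autoImplicit false

namespace Cfsg.Agent.L33Rec

open Subgroup Cfsg.Agent.Involution

variable {G : Type*} [Group G]

theorem conj_eq_iff {g x y : G} : g * x * g⁻¹ = y ↔ g * x = y * g := mul_inv_eq_iff_eq_mul

theorem pow_mod_three {x : G} (hx : x ^ 3 = 1) (n : ℕ) : x ^ n = x ^ (n % 3) :=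
  pow_eq_pow_mod n hx

theorem card_centralizer_conj' (g x : G) :
    Nat.card (centralizer ({g * x * g⁻¹} : Set G)) = Nat.card (centralizer ({x} : Set G)) := by
  refine Nat.card_congr ((MulAut.conj g).symm.toEquiv.subtypeEquiv fun y => ?_)
  simp only [MulEquiv.toEquiv_eq_coe, EquivLike.coe_coe, MulAut.conj_symm_apply,
    mem_centralizer_singleton]
  constructor
  · intro h
    calc g⁻¹ * y * g * x = g⁻¹ * (y * (g * x * g⁻¹)) * g := by group
      _ = g⁻¹ * (g * x * g⁻¹ * y) * g := by rw [h]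
      _ = x * (g⁻¹ * y * g) := by group
  · intro h
    calc y * (g * x * g⁻¹) = g * (g⁻¹ * y * g * x) * g⁻¹ := by group
      _ = g * (x * (g⁻¹ * y * g)) * g⁻¹ := by rw [h]
      _ = g * x * g⁻¹ * y := by group

/-- The subgroup generated by two commuting elements of exponent three. -/
def pair3 (z w : G) (hz : z ^ 3 = 1) (hw : w ^ 3 = 1) (hzw : Commute z w) : Subgroup G where
  carrier := {x | ∃ i j : ℕ, x = z ^ i * w ^ j}
  one_mem' := ⟨0, 0, by rw [pow_zero, pow_zero, one_mul]⟩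
  mul_mem' := by
    rintro x y ⟨i, j, rfl⟩ ⟨k, l, rfl⟩
    exact ⟨i + k, j + l, by rw [(hzw.symm.pow_pow j k).mul_mul_mul_comm, pow_add, pow_add]⟩
  inv_mem' := by
    rintro x ⟨i, j, rfl⟩
    refine ⟨2 * i, 2 * j, inv_eq_of_mul_eq_one_right ?_⟩
    rw [(hzw.symm.pow_pow j (2 * i)).mul_mul_mul_comm, ← pow_add, ← pow_add,
      pow_mod_three hz, pow_mod_three hw, show (i + 2 * i) % 3 = 0 by omega,
      show (j + 2 * j) % 3 = 0 by omega, pow_zero, pow_zero, one_mul]

section Pair

variable {z w : G} (hz : z ^ 3 = 1) (hw : w ^ 3 = 1) (hzw : Commute z w)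

theorem mem_pair3 {x : G} : x ∈ pair3 z w hz hw hzw ↔ ∃ i j : ℕ, x = z ^ i * w ^ j := Iff.rfl

theorem left_mem_pair3 : z ∈ pair3 z w hz hw hzw := ⟨1, 0, by rw [pow_one, pow_zero, mul_one]⟩

theorem right_mem_pair3 : w ∈ pair3 z w hz hw hzw := ⟨0, 1, by rw [pow_one, pow_zero, one_mul]⟩

theorem pair3_le {K : Subgroup G} (h1 : z ∈ K) (h2 : w ∈ K) : pair3 z w hz hw hzw ≤ K := by
  rintro x ⟨i, j, rfl⟩
  exact mul_mem (pow_mem h1 i) (pow_mem h2 j)

theorem exists_lt_of_mem_pair3 {x : G} (hx : x ∈ pair3 z w hz hw hzw) :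
    ∃ i j : ℕ, i < 3 ∧ j < 3 ∧ x = z ^ i * w ^ j := by
  obtain ⟨i, j, rfl⟩ := hx
  exact ⟨i % 3, j % 3, Nat.mod_lt _ (by norm_num), Nat.mod_lt _ (by norm_num),
    by rw [← pow_mod_three hz, ← pow_mod_three hw]⟩

theorem comm_pair3 {x y : G} (hx : x ∈ pair3 z w hz hw hzw) (hy : y ∈ pair3 z w hz hw hzw) :
    Commute x y := by
  obtain ⟨i, j, rfl⟩ := hx
  obtain ⟨k, l, rfl⟩ := hy
  refine Commute.mul_left (Commute.mul_right ?_ ?_) (Commute.mul_right ?_ ?_)
  · exact Commute.pow_pow_self z i k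
  · exact hzw.pow_pow i l
  · exact hzw.symm.pow_pow j k
  · exact Commute.pow_pow_self w j l

theorem pow_three_pair3 {x : G} (hx : x ∈ pair3 z w hz hw hzw) : x ^ 3 = 1 := by
  obtain ⟨i, j, rfl⟩ := hx
  rw [(hzw.pow_pow i j).mul_pow, ← pow_mul, ← pow_mul, mul_comm i, mul_comm j, pow_mul, pow_mul,
    hz, hw, one_pow, one_pow, one_mul]

include hz hw in
theorem pow_mul_pow_inj (hw0 : ∀ i : ℕ, w ≠ z ^ i) (hz1 : z ≠ 1) {i j k l : ℕ} (hi : i < 3)
    (hj : j < 3) (hk : k < 3) (hl : l < 3) (h : z ^ i * w ^ j = z ^ k * w ^ l) :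
    i = k ∧ j = l := by
  have e2 : z ^ (2 * k + i) = w ^ (2 * j + l) := by
    have := congrArg (fun y => z ^ (2 * k) * y * w ^ (2 * j)) h
    simp only [← mul_assoc, ← pow_add] at this
    rw [mul_assoc, ← pow_add, mul_assoc, ← pow_add, pow_mod_three hw (j + 2 * j),
      pow_mod_three hz (2 * k + k), show (j + 2 * j) % 3 = 0 by omega,
      show (2 * k + k) % 3 = 0 by omega, pow_zero, pow_zero, mul_one, one_mul] at this
    rw [this, add_comm]
  rw [pow_mod_three hz, pow_mod_three hw] at e2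
  have hlt : (2 * j + l) % 3 < 3 := Nat.mod_lt _ (by norm_num)
  rcases (show (2 * j + l) % 3 = 0 ∨ (2 * j + l) % 3 = 1 ∨ (2 * j + l) % 3 = 2 by omega)
    with h3 | h3 | h3 <;> rw [h3] at e2
  · rw [pow_zero] at e2
    have hord : orderOf z = 3 := by
      haveI : Fact (Nat.Prime 3) := ⟨Nat.prime_three⟩
      exact orderOf_eq_prime hz hz1
    have := orderOf_dvd_of_pow_eq_one e2
    rw [hord] at this
    omega
  · exact absurd (by rw [e2, pow_one]) (hw0 ((2 * k + i) % 3))
  · refine absurd ?_ (hw0 (2 * ((2 * k + i) % 3)))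
    rw [mul_comm 2, pow_mul, e2, ← pow_mul, show 2 * 2 = 3 + 1 from rfl, pow_succ, hw, one_mul]

theorem card_pair3 (hw0 : ∀ i : ℕ, w ≠ z ^ i) (hz1 : z ≠ 1) :
    Nat.card (pair3 z w hz hw hzw) = 9 := by
  let f : Fin 3 × Fin 3 → pair3 z w hz hw hzw := fun p => ⟨z ^ (p.1 : ℕ) * w ^ (p.2 : ℕ), _, _, rfl⟩
  have hf : Function.Bijective f := by
    refine ⟨fun p q h => ?_, fun x => ?_⟩
    · obtain ⟨h1, h2⟩ := pow_mul_pow_inj hz hw hw0 hz1 p.1.2 p.2.2 q.1.2 q.2.2
        (congrArg Subtype.val h)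
      exact Prod.ext (Fin.ext h1) (Fin.ext h2)
    · obtain ⟨i, j, hi, hj, e⟩ := exists_lt_of_mem_pair3 hz hw hzw x.2
      exact ⟨(⟨i, hi⟩, ⟨j, hj⟩), Subtype.ext e.symm⟩
  rw [← Nat.card_eq_of_bijective f hf, Nat.card_prod]
  simp

/-- A `3`-element normalising `⟨z, w⟩` and centralising `z` adds a power of `z` to `w`. -/
theorem conj_right_pair3 [Finite G] (hw0 : ∀ i : ℕ, w ≠ z ^ i) {p : G} (hp : Odd (orderOf p))
    (hpz : p * z = z * p) (hpw : p * w * p⁻¹ ∈ pair3 z w hz hw hzw) :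
    ∃ b : ℕ, b < 3 ∧ p * w * p⁻¹ = z ^ b * w := by
  obtain ⟨i, j, hi, hj, e⟩ := exists_lt_of_mem_pair3 hz hw hzw hpw
  rcases (show j = 0 ∨ j = 1 ∨ j = 2 by omega) with rfl | rfl | rfl
  · refine absurd ?_ (hw0 i)
    rw [pow_zero, mul_one, conj_eq_iff, (Commute.pow_left (Eq.symm hpz) i : Commute (z ^ i) p).eq] at e
    exact mul_left_cancel e
  · exact ⟨i, hi, by rw [e, pow_one]⟩
  · exfalso
    have hzi : ∀ k, p * z ^ k * p⁻¹ = z ^ k := fun k =>
      conj_eq_iff.mpr (Commute.pow_right hpz k)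
    have h2 : p * (p * w * p⁻¹) * p⁻¹ = w := by
      rw [e]
      calc p * (z ^ i * w ^ 2) * p⁻¹ = p * z ^ i * p⁻¹ * ((p * w * p⁻¹) * (p * w * p⁻¹)) := by
            rw [pow_two]; group
        _ = z ^ i * ((z ^ i * w ^ 2) * (z ^ i * w ^ 2)) := by rw [hzi, e]
        _ = z ^ (i + (i + i)) * w ^ (2 + 2) := by
            rw [((hzw.symm.pow_pow 2 i)).mul_mul_mul_comm, ← pow_add, ← pow_add, ← mul_assoc,
              ← pow_add]
        _ = w := by
            rw [pow_mod_three hz, pow_mod_three hw, show (i + (i + i)) % 3 = 0 by omega,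
              pow_zero, one_mul, pow_one]
    have hc : Commute (p ^ 2) w := by
      show p ^ 2 * w = w * p ^ 2
      calc p ^ 2 * w = p * (p * w * p⁻¹) * p⁻¹ * p ^ 2 := by rw [pow_two]; group
        _ = w * p ^ 2 := by rw [h2]
    obtain ⟨k, hk⟩ := hp
    have hp' : p = (p ^ 2) ^ (k + 1) := by
      rw [← pow_mul, show 2 * (k + 1) = orderOf p + 1 by omega, pow_succ, pow_orderOf_eq_one,
        one_mul]
    have hcp : Commute p w := hp' ▸ hc.pow_left (k + 1)
    rw [conj_eq_iff.mpr hcp.eq] at e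
    refine hw0 (2 * i) ?_
    have e' : w = z ^ i * w ^ 2 := e
    have e2 : z ^ i * w = 1 := mul_right_cancel (b := w) (by
      rw [mul_assoc, ← pow_two, ← e', one_mul])
    rw [eq_inv_of_mul_eq_one_right e2]
    refine inv_eq_of_mul_eq_one_right ?_
    rw [← pow_add, pow_mod_three hz, show (i + 2 * i) % 3 = 0 by omega, pow_zero]

end Pair

/-- A subgroup of order nine in one of order 27 is normalised by it. -/
theorem conj_mem_of_nine [Finite G] {E P : Subgroup G} (hle : E ≤ P) (hE : Nat.card E = 9)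
    (hP : Nat.card P = 27) {p x : G} (hp : p ∈ P) (hx : x ∈ E) : p * x * p⁻¹ ∈ E := by
  have h1 : (E.subgroupOf P).index = 3 := by
    have h := (E.subgroupOf P).card_mul_index
    rw [Nat.card_congr (subgroupOfEquivOfLe hle).toEquiv, hE, hP] at h
    omega
  haveI : (E.subgroupOf P).Normal := normal_of_index_eq_minFac_card (by
    rw [h1, hP, show (27 : ℕ) = 3 ^ 3 from rfl, Nat.Prime.pow_minFac Nat.prime_three (by norm_num)])
  exact (inferInstance : (E.subgroupOf P).Normal).conj_mem ⟨x, hle hx⟩ hx ⟨p, hp⟩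

/-- Pairwise commuting: an element of a group of order 27 with a central subgroup of order nine. -/
theorem commute_of_central_nine [Finite G] {E P : Subgroup G} (hle : E ≤ P) (hE : Nat.card E = 9)
    (hP : Nat.card P = 27) (hc : ∀ x ∈ E, ∀ p ∈ P, Commute x p) :
    ∀ p ∈ P, ∀ q ∈ P, Commute p q := by
  intro p hp q hq
  by_cases hpE : p ∈ E
  · exact hc p hpE q hq
  · set K : Subgroup G := P ⊓ centralizer ({p} : Set G) with hK
    have hEK : E ≤ K := le_inf hle fun x hx => mem_centralizer_singleton.mpr (hc x hx p hp)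
    have hpK : p ∈ K := mem_inf.mpr ⟨hp, mem_centralizer_singleton.mpr rfl⟩
    have hd : Nat.card K ∣ 3 ^ 3 := by
      have := card_dvd_of_le (inf_le_left : K ≤ P); rwa [hP] at this
    obtain ⟨k, hk3, hk⟩ := (Nat.dvd_prime_pow Nat.prime_three).mp hd
    have h9 : 9 ≤ Nat.card K := hE ▸ Nat.le_of_dvd Nat.card_pos (card_dvd_of_le hEK)
    have hne : Nat.card K ≠ 9 := fun h =>
      hpE ((eq_of_le_of_card_ge hEK (by omega)).symm ▸ hpK)
    have : Nat.card K = 27 := by
      rw [hk] at h9 hne ⊢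
      interval_cases k <;> simp_all
    have hKP : K = P := eq_of_le_of_card_ge inf_le_left (by omega)
    exact (mem_centralizer_singleton.mp (mem_inf.mp (hKP.symm ▸ hq : q ∈ K)).2).symm

/-- The order of a simple group divides the factorial of the index of a proper subgroup. -/
theorem card_dvd_factorial_index [Finite G] [IsSimpleGroup G] {H : Subgroup G} (hH : H ≠ ⊤) :
    Nat.card G ∣ (H.index).factorial := by
  have hker : (MulAction.toPermHom G (G ⧸ H)).ker = ⊥ := by
    rcases (inferInstance : (MulAction.toPermHom G (G ⧸ H)).ker.Normal).eq_bot_or_eq_top with h | h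
    · exact h
    · exfalso
      refine hH (top_le_iff.mp fun g _ => ?_)
      have hg : MulAction.toPermHom G (G ⧸ H) g = 1 :=
        MonoidHom.mem_ker.mp (h ▸ mem_top g)
      have h1 := Equiv.congr_fun hg ((1 : G) : G ⧸ H)
      simp only [MulAction.toPermHom_apply, MulAction.toPerm_apply, Equiv.Perm.coe_one, id_eq,
        MulAction.Quotient.smul_coe, smul_eq_mul, mul_one] at h1
      simpa [QuotientGroup.eq] using h1.symm
  have := card_dvd_of_injective _ ((MonoidHom.ker_eq_bot_iff _).mp hker)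
  rwa [Nat.card_perm, ← index_eq_card] at this

/-- A simple group of order 5616 has no proper subgroup of index at most eight. -/
theorem eight_lt_index [Finite G] [IsSimpleGroup G] (hcard : Nat.card G = 5616) {H : Subgroup G}
    (hH : H ≠ ⊤) : 8 < H.index := by
  by_contra h
  have := (card_dvd_factorial_index hH).trans (Nat.factorial_dvd_factorial (not_lt.mp h))
  rw [hcard] at this
  revert this
  decide

end Cfsg.Agent.L33Rec

namespace Cfsg.Agent.L33Rec

open Subgroup Cfsg.Agent.Involution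

variable {G : Type*} [Group G] [Finite G]

/-- In a group with a subgroup of index two, odd-order elements lie in the subgroup. -/
theorem mem_of_odd_of_double {K A : Subgroup G} (hle : K ≤ A) (h : Nat.card A = 2 * Nat.card K)
    {x : G} (hx : x ∈ A) (ho : Odd (orderOf x)) : x ∈ K := by
  have hi : (K.subgroupOf A).index = 2 := by
    have h' := (K.subgroupOf A).card_mul_index
    rw [Nat.card_congr (subgroupOfEquivOfLe hle).toEquiv, h, mul_comm 2] at h'
    exact Nat.eq_of_mul_eq_mul_left Nat.card_pos h'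
  obtain ⟨k, hk⟩ := ho
  have h2 : x * x ∈ K := mul_self_mem_of_index_two hi (⟨x, hx⟩ : A)
  have h1 : x * (x * x) ^ k = 1 := by
    rw [← pow_two, ← pow_mul, ← pow_succ', ← hk, pow_orderOf_eq_one]
  rw [eq_inv_of_mul_eq_one_left h1]
  exact inv_mem (pow_mem h2 k)

/-- In a group with a subgroup of index two, two elements outside it have product inside. -/
theorem mul_mem_of_double {K A : Subgroup G} (hle : K ≤ A) (h : Nat.card A = 2 * Nat.card K)
    {x y : G} (hx : x ∈ A) (hy : y ∈ A) (hxK : x ∉ K) (hyK : y ∉ K) : x * y ∈ K := by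
  have hi : (K.subgroupOf A).index = 2 := by
    have h' := (K.subgroupOf A).card_mul_index
    rw [Nat.card_congr (subgroupOfEquivOfLe hle).toEquiv, h, mul_comm 2] at h'
    exact Nat.eq_of_mul_eq_mul_left Nat.card_pos h'
  have := (mul_mem_iff_of_index_two hi (a := (⟨x, hx⟩ : A)) (b := ⟨y, hy⟩)).mpr
    ⟨fun h => absurd h hxK, fun h => absurd h hyK⟩
  exact this

/-- A subgroup of odd order and index two is normalised. -/
theorem conj_mem_of_double {K A : Subgroup G} (hle : K ≤ A) (h : Nat.card A = 2 * Nat.card K)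
    (hodd : Odd (Nat.card K)) {g x : G} (hg : g * x * g⁻¹ ∈ A) (hx : x ∈ K) : g * x * g⁻¹ ∈ K := by
  refine mem_of_odd_of_double hle h hg (hodd.of_dvd_nat ?_)
  rw [← MulAut.conj_apply, MulEquiv.orderOf_eq]
  exact K.orderOf_dvd_natCard hx

/-- An involution without fixed points on a finite subgroup it normalises inverts it. -/
theorem inverts_of_fixfree {K : Subgroup G} {v : G} (hv : v * v = 1)
    (hc : ∀ n ∈ K, v * n * v ∈ K) (hfix : ∀ n ∈ K, n * v = v * n → n = 1) {m : G} (hm : m ∈ K) :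
    v * m * v = m⁻¹ := by
  have hvi : v⁻¹ = v := inv_eq_of_mul_eq_one_right hv
  let f : K → K := fun n => ⟨(n : G)⁻¹ * (v * n * v), mul_mem (inv_mem n.2) (hc _ n.2)⟩
  have hf : Function.Injective f := fun a b hab => by
    have h : (a : G)⁻¹ * (v * a * v) = (b : G)⁻¹ * (v * b * v) := congrArg Subtype.val hab
    have h2 : ((b : G) * (a : G)⁻¹) * v * a * v = v * b * v := by
      calc ((b : G) * (a : G)⁻¹) * v * a * v = (b : G) * ((a : G)⁻¹ * (v * a * v)) := by group
        _ = v * b * v := by rw [h]; group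
    have h1 : ((b : G) * (a : G)⁻¹) * v = v * ((b : G) * (a : G)⁻¹) := by
      have h3 := mul_right_cancel h2
      calc ((b : G) * (a : G)⁻¹) * v = ((b : G) * (a : G)⁻¹) * v * a * (a : G)⁻¹ := by group
        _ = v * ((b : G) * (a : G)⁻¹) := by rw [h3]; group
    have := hfix _ (mul_mem b.2 (inv_mem a.2)) h1
    exact Subtype.ext (mul_inv_eq_one.mp this).symm
  obtain ⟨n, hn⟩ := (Finite.injective_iff_surjective.mp hf) ⟨m, hm⟩
  have hn' : (n : G)⁻¹ * (v * n * v) = m := congrArg Subtype.val hn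
  rw [← hn']
  calc v * ((n : G)⁻¹ * (v * n * v)) * v = v * (n : G)⁻¹ * v * n * (v * v) := by group
    _ = v⁻¹ * (n : G)⁻¹ * v⁻¹ * n := by rw [hv, mul_one, hvi]
    _ = ((n : G)⁻¹ * (v * n * v))⁻¹ := by group

end Cfsg.Agent.L33Rec
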