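import Cfsg.Agent.L33Rec.CentC

/-!
# The centraliser of `c` has order 54
-/

set_option autoImplicit false
set_option linter.unusedSectionVars false
set_option maxHeartbeats 1000000

namespace Cfsg.Agent.L33Rec

open Subgroup

variable {G : Type*} [Group G] [Finite G]

/-- A central element of order three in a subgroup of order 27. -/
theorem exists_central_three {P : Subgroup G} (hP : Nat.card P = 27) :
    ∃ z ∈ P, orderOf z = 3 ∧ ∀ y ∈ P, Commute y z := by
  haveI : Fact (Nat.Prime 3) := ⟨Nat.prime_three⟩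
  have hp : IsPGroup 3 P := IsPGroup.of_card (n := 3) (by rw [hP]; rfl)
  haveI : Nontrivial P := Finite.one_lt_card_iff_nontrivial.mp (by omega)
  haveI := hp.center_nontrivial
  obtain ⟨k, hk0, hk⟩ := (hp.to_subgroup (center P)).nontrivial_iff_card.mp inferInstance
  obtain ⟨z, hz⟩ := exists_prime_orderOf_dvd_card' 3
    (show 3 ∣ Nat.card (center P) by rw [hk]; exact dvd_pow_self 3 (by omega))
  exact ⟨((z : P) : G), (z : P).2, by rw [orderOf_submonoid, orderOf_submonoid, hz],
    fun y hy => congrArg Subtype.val (mem_center_iff.mp z.2 ⟨y, hy⟩)⟩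

/-- A subgroup of order `3 ^ n` lies in one of order 27. -/
theorem exists_le_27 (hcard : Nat.card G = 5616) {K : Subgroup G} {n : ℕ} (hK : Nat.card K = 3 ^ n)
    (hn : n ≤ 3) : ∃ P : Subgroup G, Nat.card P = 27 ∧ K ≤ P := by
  haveI : Fact (Nat.Prime 3) := ⟨Nat.prime_three⟩
  obtain ⟨P, hP, hKP⟩ := Sylow.exists_subgroup_card_pow_prime_le 3 (G := G) (m := 3)
    (by rw [hcard]; norm_num) K hK hn
  exact ⟨P, by rw [hP]; rfl, hKP⟩

theorem odd_orderOf_mem {K : Subgroup G} (hK : Odd (Nat.card K)) {x : G} (hx : x ∈ K) :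
    Odd (orderOf x) := hK.of_dvd_nat (K.orderOf_dvd_natCard hx)

theorem odd_orderOf_pow_three {x : G} (hx : x ^ 3 = 1) : Odd (orderOf x) :=
  (show Odd 3 by decide).of_dvd_nat (orderOf_dvd_of_pow_eq_one hx)

theorem mul_self_eq_one_of_orderOf {v : G} (hv : orderOf v = 2) : v * v = 1 := by
  rw [← pow_two, ← hv, pow_orderOf_eq_one]

theorem conj_t_mul {v : G} (hv : v * v = 1) (x y : G) : v * (x * y) * v = (v * x * v) * (v * y * v) := by
  calc v * (x * y) * v = v * x * (v * v) * y * v := by rw [hv, mul_one]; group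
    _ = (v * x * v) * (v * y * v) := by group

theorem conj_t_pow {v : G} (hv : v * v = 1) (x : G) (k : ℕ) : v * x ^ k * v = (v * x * v) ^ k := by
  induction k with
  | zero => rw [pow_zero, pow_zero, mul_one, hv]
  | succ k ih => rw [pow_succ, conj_t_mul hv, ih, pow_succ]

end Cfsg.Agent.L33Rec

namespace Cfsg.Agent.GL23Inv

open Subgroup Cfsg.Agent.Involution Cfsg.Agent.L33Rec

namespace Setup

variable {G : Type*} [Group G] [Finite G] [IsSimpleGroup G] (S : Setup G)
  (hcard : Nat.card G = 5616)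

theorem t_mul_self : S.t * S.t = 1 := mul_self_eq_one_of_orderOf S.ht

theorem t_inv : S.t⁻¹ = S.t := inv_eq_of_mul_eq_one_right S.t_mul_self

/-- Odd-order elements centralising `t` and `c` are powers of `c`. -/
theorem eq_pow_c {y : G} (hy : Odd (orderOf y)) (hyt : y * S.t = S.t * y)
    (hyc : y * S.c = S.c * y) : ∃ i : ℕ, y = S.c ^ i := by
  obtain ⟨i, h | h⟩ := S.cent_t_c hyt hyc
  · exact ⟨i, h⟩
  · exfalso
    have h6 : y ^ 3 = S.t := by
      rw [h, (show Commute S.t (S.c ^ i) from Commute.pow_right S.c_comm_t.symm i).mul_pow,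
        ← pow_mul, mul_comm i, pow_mul, S.c_pow_three, one_pow, mul_one, pow_succ, pow_two,
        S.t_mul_self, one_mul]
    have h2 : orderOf (y ^ 3) ∣ orderOf y := orderOf_pow_dvd 3
    rw [h6, S.ht] at h2
    exact (Nat.not_even_iff_odd.mpr hy) (even_iff_two_dvd.mpr h2)

/-- An element of order three inverted by `t` whose subgroup `w` normalises is conjugate to `c`. -/
theorem conj_c_of_inverted {x : G} (h3 : x ^ 3 = 1) (h1 : x ≠ 1) (hxt : S.t * x * S.t = x⁻¹)
    {j : ℕ} (hw : S.w * x * S.w = x ^ j) : IsConj x S.c := by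
  rw [pow_mod_three h3] at hw
  rcases (show j % 3 = 0 ∨ j % 3 = 1 ∨ j % 3 = 2 by omega) with h | h | h <;> rw [h] at hw
  · refine absurd ?_ h1
    rw [pow_zero] at hw
    calc x = (S.w * S.w) * x * (S.w * S.w) := by rw [S.w_mul_self, one_mul, mul_one]
      _ = S.w * (S.w * x * S.w) * S.w := by group
      _ = 1 := by rw [hw, mul_one, S.w_mul_self]
  · rw [pow_one] at hw
    refine S.conj_c_of_comm_invol S.not_index_two S.orderOf_w ?_ h3 h1
    calc x * S.w = S.w * x * S.w * S.w := by rw [hw]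
      _ = S.w * x := by rw [mul_assoc, S.w_mul_self, mul_one]
  · have hx2 : x ^ 2 = x⁻¹ := (inv_eq_of_mul_eq_one_right (by rw [← pow_succ', h3])).symm
    rw [hx2] at hw
    refine S.conj_c_of_comm_invol (v := S.t * S.w) S.not_index_two ?_ ?_ h3 h1
    · haveI : Fact (Nat.Prime 2) := ⟨Nat.prime_two⟩
      refine orderOf_eq_prime ?_ ?_
      · rw [(show Commute S.t S.w from S.w_comm_t.symm).mul_pow, pow_two, pow_two, S.t_mul_self,
          S.w_mul_self, one_mul]
      · intro h'
        exact S.w_ne_t (by rw [← S.t_inv]; exact (inv_eq_of_mul_eq_one_right h').symm)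
    · have h' : S.t * S.w * x * (S.w * S.t) = x := by
        calc S.t * S.w * x * (S.w * S.t) = S.t * (S.w * x * S.w) * S.t := by group
          _ = x := by
            rw [hw]
            calc S.t * x⁻¹ * S.t = (S.t⁻¹ * x * S.t⁻¹)⁻¹ := by group
              _ = x := by rw [S.t_inv, hxt, inv_inv]
      calc x * (S.t * S.w) = S.t * S.w * x * (S.w * (S.t * S.t) * S.w) := by
            conv_lhs => rw [← h']
            group
        _ = S.t * S.w * x := by rw [S.t_mul_self, mul_one, S.w_mul_self, mul_one]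

theorem w_conj_mem_cent_c {y : G} (hy : y ∈ centralizer ({S.c} : Set G)) :
    S.w * y * S.w ∈ centralizer ({S.c} : Set G) := by
  have hy' : y * S.c⁻¹ = S.c⁻¹ * y :=
    (Commute.inv_right (show Commute y S.c from mem_centralizer_singleton.mp hy)).eq
  refine mem_centralizer_singleton.mpr ?_
  have hc : S.c = S.w * S.c⁻¹ * S.w := by
    rw [← S.w_conj_c]
    calc S.c = (S.w * S.w) * S.c * (S.w * S.w) := by rw [S.w_mul_self, one_mul, mul_one]
      _ = _ := by group
  conv_lhs => rw [hc]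
  conv_rhs => rw [hc]
  rw [← conj_t_mul S.w_mul_self, ← conj_t_mul S.w_mul_self, hy']

theorem t_conj_c : S.t * S.c * S.t = S.c := by
  rw [← S.c_comm_t, mul_assoc, S.t_mul_self, mul_one]

include hcard in
theorem card_cent_c : Nat.card (centralizer ({S.c} : Set G)) = 54 := by
  haveI : Fact (Nat.Prime 3) := ⟨Nat.prime_three⟩
  obtain ⟨a, ha1, ha3, hA⟩ := S.exists_card_cent_c hcard
  have h9 := S.nine_dvd hcard
  rw [hA] at h9
  interval_cases a
  · norm_num at h9
  swap
  · rw [hA]; norm_num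
  exfalso
  norm_num at hA
  set A := centralizer ({S.c} : Set G) with hAdef
  obtain ⟨K₀, hK₀⟩ := Sylow.exists_subgroup_card_pow_prime (G := A) 3 (n := 2) (by rw [hA]; norm_num)
  set K : Subgroup G := K₀.map A.subtype with hKdef
  have hKA : K ≤ A := map_subtype_le K₀
  have hK : Nat.card K = 9 := by
    rw [hKdef, ← Nat.card_congr (K₀.equivMapOfInjective A.subtype A.subtype_injective).toEquiv, hK₀]
    rfl
  have hAK : Nat.card A = 2 * Nat.card K := by rw [hA, hK]
  have hKodd : Odd (Nat.card K) := by rw [hK]; decide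
  have hcA : S.c ∈ A := S.c_mem_cent_c
  have hcK : S.c ∈ K := mem_of_odd_of_double hKA hAK hcA (odd_orderOf_pow_three S.c_pow_three)
  obtain ⟨x, hxK, hxc⟩ : ∃ x ∈ K, x ∉ zpowers S.c := by
    by_contra h
    push Not at h
    have := card_dvd_of_le (show K ≤ zpowers S.c from h)
    rw [hK, Nat.card_zpowers, S.orderOf_c] at this
    omega
  have htA : S.t ∈ A := S.t_mem_cent_c
  have hKt : ∀ y ∈ K, S.t * y * S.t ∈ K := fun y hy => by
    have := conj_mem_of_double hKA hAK hKodd (g := S.t)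
      (mul_mem (mul_mem htA (hKA hy)) (inv_mem htA)) hy
    rwa [S.t_inv] at this
  have hKcomm : ∀ y ∈ K, y * S.c = S.c * y := fun y hy => mem_centralizer_singleton.mp (hKA hy)
  have hfix : ∀ y ∈ K, y * S.t = S.t * y → ∃ i : ℕ, y = S.c ^ i := fun y hy h =>
    S.eq_pow_c (odd_orderOf_mem hKodd hy) h (hKcomm y hy)
  set c' : G := x⁻¹ * (S.t * x * S.t) with hc'
  have hc'K : c' ∈ K := mul_mem (inv_mem hxK) (hKt x hxK)
  have hc't : S.t * c' * S.t = c'⁻¹ := by
    rw [hc', conj_t_mul S.t_mul_self]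
    calc S.t * x⁻¹ * S.t * (S.t * (S.t * x * S.t) * S.t)
        = S.t * x⁻¹ * S.t * ((S.t * S.t) * x * (S.t * S.t)) := by group
      _ = S.t * x⁻¹ * S.t * x := by rw [S.t_mul_self, one_mul, mul_one]
      _ = (x⁻¹ * (S.t⁻¹ * x * S.t⁻¹))⁻¹ := by group
      _ = _ := by rw [S.t_inv]
  have hc'1 : c' ≠ 1 := fun h => by
    have hxt : x * S.t = S.t * x := by
      have h' := inv_mul_eq_one.mp (hc' ▸ h)
      calc x * S.t = S.t * x * S.t * S.t := by rw [← h']
        _ = S.t * x := by rw [mul_assoc, S.t_mul_self, mul_one]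
    obtain ⟨i, hi⟩ := hfix x hxK hxt
    exact hxc (hi ▸ pow_mem (mem_zpowers _) i)
  clear_value c'
  have hc'9 : orderOf c' ∣ 3 ^ 2 := by
    have := K.orderOf_dvd_natCard hc'K; rwa [hK] at this
  have hc'3 : c' ^ 3 = 1 := by
    obtain ⟨k, hk, hko⟩ := (Nat.dvd_prime_pow Nat.prime_three).mp hc'9
    by_contra h3
    have hk2 : k = 2 := by
      by_contra hk2
      refine h3 (orderOf_dvd_iff_pow_eq_one.mp ?_)
      rw [hko]
      interval_cases k <;> first | omega | norm_num
    subst hk2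
    have hz : zpowers c' = K := eq_of_le_of_card_ge (zpowers_le.mpr hc'K) (by
      rw [hK, Nat.card_zpowers, hko]; norm_num)
    obtain ⟨m, hm⟩ := mem_zpowers_iff.mp (hz.symm ▸ hcK : S.c ∈ zpowers c')
    have : S.c = S.c⁻¹ := by
      conv_lhs => rw [← S.t_conj_c, ← hm]
      rw [← hm, show S.t * c' ^ m * S.t = S.t * c' ^ m * S.t⁻¹ by rw [S.t_inv], ← conj_zpow,
        S.t_inv, hc't, inv_zpow]
    have h2 : S.c ^ 2 = 1 := by
      rw [pow_two]; nth_rw 1 [this]; exact inv_mul_cancel _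
    have := orderOf_dvd_of_pow_eq_one h2
    rw [S.orderOf_c] at this
    omega
  have hcc' : Commute S.c c' := (hKcomm c' hc'K).symm
  have hw0 : ∀ i : ℕ, c' ≠ S.c ^ i := by
    intro i hi
    have h' := hc't
    rw [hi, conj_t_pow S.t_mul_self, S.t_conj_c] at h'
    have h2 : S.c ^ (2 * i) = 1 := by
      rw [two_mul, pow_add]; nth_rw 1 [h']; exact inv_mul_cancel _
    rw [pow_mod_three S.c_pow_three] at h2
    have h2' := orderOf_dvd_of_pow_eq_one h2
    rw [S.orderOf_c] at h2'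
    exact hc'1 (by rw [hi, pow_mod_three S.c_pow_three, show i % 3 = 0 by omega, pow_zero])
  have hKpair : pair3 S.c c' S.c_pow_three hc'3 hcc' = K :=
    eq_of_le_of_card_ge (pair3_le _ _ _ hcK hc'K) (by rw [hK, card_pair3 _ _ _ hw0 S.c_ne_one])
  have hc'conj : IsConj c' S.c := by
    have hwA : S.w * c' * S.w ∈ A := S.w_conj_mem_cent_c (hKA hc'K)
    have h33 : (S.w * c' * S.w) ^ 3 = 1 := by
      rw [← conj_t_pow S.w_mul_self, hc'3, mul_one, S.w_mul_self]
    have hwK : S.w * c' * S.w ∈ K :=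
      mem_of_odd_of_double hKA hAK hwA (odd_orderOf_pow_three h33)
    obtain ⟨i, j, hi, hj, e⟩ := exists_lt_of_mem_pair3 _ _ _ (hKpair.symm ▸ hwK :
      S.w * c' * S.w ∈ pair3 S.c c' S.c_pow_three hc'3 hcc')
    have hinv : S.t * (S.w * c' * S.w) * S.t = (S.w * c' * S.w)⁻¹ := by
      calc S.t * (S.w * c' * S.w) * S.t = (S.t * S.w) * c' * (S.w * S.t) := by group
        _ = (S.w * S.t) * c' * (S.t * S.w) := by rw [S.w_comm_t]
        _ = S.w * (S.t * c' * S.t) * S.w := by group
        _ = (S.w⁻¹ * c' * S.w⁻¹)⁻¹ := by rw [hc't]; group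
        _ = _ := by rw [inv_eq_of_mul_eq_one_right S.w_mul_self]
    rw [e, conj_t_mul S.t_mul_self, conj_t_pow S.t_mul_self, conj_t_pow S.t_mul_self, S.t_conj_c,
      hc't, mul_inv_rev, inv_pow, (Commute.inv_inv (hcc'.pow_pow i j)).symm.eq,
      mul_left_inj] at hinv
    have h2 : S.c ^ (2 * i) = 1 := by
      rw [two_mul, pow_add]; nth_rw 1 [hinv]; exact inv_mul_cancel _
    rw [pow_mod_three S.c_pow_three] at h2
    have h2' := orderOf_dvd_of_pow_eq_one h2
    rw [S.orderOf_c] at h2'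
    rw [show i = 0 by omega, pow_zero, one_mul] at e
    exact S.conj_c_of_inverted hc'3 hc'1 hc't e
  have hA' : Nat.card (centralizer ({c'} : Set G)) = 18 := by
    obtain ⟨g, hg⟩ := isConj_iff.mp hc'conj
    rw [← hA, hAdef, ← hg, card_centralizer_conj']
  obtain ⟨P, hP, hKP⟩ := exists_le_27 hcard (K := K) (n := 2) (by rw [hK]; rfl) (by norm_num)
  obtain ⟨z, hzP, hz, hzc⟩ := exists_central_three hP
  have no27 : ∀ y : G, Nat.card (centralizer ({y} : Set G)) = 18 →
      ¬ (P ≤ centralizer ({y} : Set G)) := fun y hy hle => by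
    have := card_dvd_of_le hle; rw [hP, hy] at this; omega
  have hz3 : z ^ 3 = 1 := hz ▸ pow_orderOf_eq_one z
  have hzK : z ∈ K := mem_of_odd_of_double hKA hAK
    (mem_centralizer_singleton.mpr (hzc _ (hKP hcK)).symm.eq) (odd_orderOf_pow_three hz3)
  obtain ⟨i, j, hi, hj, hzij⟩ := exists_lt_of_mem_pair3 _ _ _ (hKpair.symm ▸ hzK :
    z ∈ pair3 S.c c' S.c_pow_three hc'3 hcc')
  have sq_mod : ∀ n : ℕ, n < 3 → n ≠ 0 → (n * n) % 3 = 1 := fun n h1 h2 => by
    interval_cases n <;> first | omega | rfl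
  have pow_sq : ∀ (y : G) (n : ℕ), y ^ 3 = 1 → n < 3 → n ≠ 0 → (y ^ n) ^ n = y :=
    fun y n h h1 h2 => by rw [← pow_mul, pow_mod_three h, sq_mod n h1 h2, pow_one]
  have hi0 : i ≠ 0 := by
    intro h0
    rw [h0, pow_zero, one_mul] at hzij
    have hj0 : j ≠ 0 := fun h => by rw [hzij, h, pow_zero, orderOf_one] at hz; omega
    refine no27 c' hA' fun y hy => mem_centralizer_singleton.mpr ?_
    rw [← pow_sq c' j hc'3 hj hj0, ← hzij]
    exact ((hzc y hy).pow_right j).eq
  have hj0 : j ≠ 0 := by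
    intro h0
    rw [h0, pow_zero, mul_one] at hzij
    refine no27 S.c hA fun y hy => mem_centralizer_singleton.mpr ?_
    rw [← pow_sq S.c i S.c_pow_three hi hi0, ← hzij]
    exact ((hzc y hy).pow_right i).eq
  obtain ⟨p, hpP, hpK⟩ : ∃ p ∈ P, p ∉ K := by
    by_contra h
    push Not at h
    have := card_dvd_of_le (show P ≤ K from h)
    rw [hK, hP] at this
    omega
  have hzc1 : Commute z S.c := hKcomm z hzK
  have hc0 : ∀ m : ℕ, S.c ≠ z ^ m := fun m hm =>
    no27 S.c hA fun y hy => mem_centralizer_singleton.mpr (hm ▸ (hzc y hy).pow_right m).eq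
  have hz1 : z ≠ 1 := fun h => by rw [h, orderOf_one] at hz; omega
  have hKpair' : pair3 z S.c hz3 S.c_pow_three hzc1 = K :=
    eq_of_le_of_card_ge (pair3_le _ _ _ hzK hcK) (by rw [hK, card_pair3 _ _ _ hc0 hz1])
  obtain ⟨b, hb3, hb⟩ := conj_right_pair3 hz3 S.c_pow_three hzc1 hc0
    (odd_orderOf_mem (by rw [hP]; decide) hpP) (hzc p hpP).eq
    (hKpair'.symm ▸ conj_mem_of_nine hKP hK hP hpP hcK)
  have hb0 : b ≠ 0 := by
    intro h0
    rw [h0, pow_zero, one_mul, conj_eq_iff] at hb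
    exact hpK (mem_of_odd_of_double hKA hAK (mem_centralizer_singleton.mpr hb)
      (odd_orderOf_mem (by rw [hP]; decide) hpP))
  have hpow : ∀ k : ℕ, p ^ k * S.c * (p ^ k)⁻¹ = z ^ (k * b) * S.c := by
    intro k
    induction k with
    | zero => simp
    | succ k ih =>
      have hpz : p * z ^ (k * b) * p⁻¹ = z ^ (k * b) :=
        conj_eq_iff.mpr ((hzc p hpP).pow_right _).eq
      calc p ^ (k + 1) * S.c * (p ^ (k + 1))⁻¹ = p * (p ^ k * S.c * (p ^ k)⁻¹) * p⁻¹ := by
            rw [pow_succ']; group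
        _ = (p * z ^ (k * b) * p⁻¹) * (p * S.c * p⁻¹) := by rw [ih]; group
        _ = _ := by rw [hpz, hb, ← mul_assoc, ← pow_add, Nat.add_mul, one_mul]
  set v : G := z ^ i * S.c with hv
  have hv18 : Nat.card (centralizer ({v} : Set G)) = 18 := by
    have e : p ^ (i * b) * S.c * (p ^ (i * b))⁻¹ = v := by
      rw [hpow, hv, mul_assoc i, pow_mod_three hz3, Nat.mul_mod, sq_mod b hb3 hb0, mul_one,
        Nat.mod_mod, ← pow_mod_three hz3]
    rw [← e, card_centralizer_conj', hA]
  have hv3 : v ^ 3 = 1 := by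
    rw [hv, (hzc1.pow_left i).mul_pow, ← pow_mul, mul_comm i, pow_mul, hz3, one_pow,
      S.c_pow_three, one_mul]
  have htz : S.t * z * S.t = v ^ (2 * i) := by
    rw [hzij, conj_t_mul S.t_mul_self, conj_t_pow S.t_mul_self, conj_t_pow S.t_mul_self, S.t_conj_c,
      hc't, hv, (hzc1.pow_left i).mul_pow, ← pow_mul, pow_mod_three hz3,
      show (i * (2 * i)) % 3 = 2 by interval_cases i <;> first | omega | rfl,
      hzij, (hcc'.pow_pow i j).mul_pow, ← pow_mul, ← pow_mul, mul_assoc,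
      ← (hcc'.pow_pow (2 * i) (j * 2)).eq, ← mul_assoc, ← pow_add,
      pow_mod_three S.c_pow_three (i * 2 + 2 * i), show (i * 2 + 2 * i) % 3 = i % 3 by omega,
      ← pow_mod_three S.c_pow_three, mul_comm j, pow_mul,
      show c'⁻¹ = c' ^ 2 from inv_eq_of_mul_eq_one_right (by rw [← pow_succ', hc'3])]
  have hvz : v = (S.t * z * S.t) ^ (2 * i) := by
    rw [htz, ← pow_mul, pow_mod_three hv3,
      show (2 * i * (2 * i)) % 3 = 1 by interval_cases i <;> first | omega | rfl, pow_one]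
  refine absurd (card_dvd_of_le (show P.map (MulAut.conj S.t).toMonoidHom ≤
    centralizer ({v} : Set G) from ?_)) ?_
  · rintro _ ⟨y, hy, rfl⟩
    refine mem_centralizer_singleton.mpr ?_
    show (S.t * y * S.t⁻¹) * v = v * (S.t * y * S.t⁻¹)
    rw [S.t_inv, hvz]
    refine (Commute.pow_right ?_ _).eq
    show (S.t * y * S.t) * (S.t * z * S.t) = (S.t * z * S.t) * (S.t * y * S.t)
    rw [← conj_t_mul S.t_mul_self, ← conj_t_mul S.t_mul_self, (hzc y hy).eq]
  · rw [hv18, ← Nat.card_congr (P.equivMapOfInjective _ (MulAut.conj S.t).injective).toEquiv, hP]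
    omega

end Setup

end Cfsg.Agent.GL23Inv
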