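import Cfsg.Agent.L33Rec.MatC

/-!
# The centraliser of an element of order three has order 54
-/

set_option autoImplicit false
set_option linter.unusedSectionVars false
set_option maxHeartbeats 1000000

namespace Cfsg.Agent.GL23Inv

open Subgroup Cfsg.Agent.Involution Cfsg.Agent.L33Rec

namespace Setup

variable {G : Type*} [Group G] [Finite G] [IsSimpleGroup G] (S : Setup G)
  (hcard : Nat.card G = 5616)

include S in
theorem not_index_two (N : Subgroup G) (hN : N.Normal) : N.index ≠ 2 := by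
  intro h
  rcases hN.eq_bot_or_eq_top with h' | h'
  · rw [h', index_bot] at h
    have h48 := card_dvd_of_le (le_top : centralizer ({S.t} : Set G) ≤ ⊤)
    rw [S.card_H, card_top, h] at h48
    omega
  · rw [h', index_top] at h
    omega

theorem t_mem_cent_c : S.t ∈ centralizer ({S.c} : Set G) :=
  mem_centralizer_singleton.mpr S.c_comm_t.symm

theorem c_mem_cent_c : S.c ∈ centralizer ({S.c} : Set G) := mem_centralizer_singleton.mpr rfl

include hcard in
theorem thirteen_not_dvd : ¬ 13 ∣ Nat.card (centralizer ({S.c} : Set G)) := by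
  intro h13
  haveI : Fact (Nat.Prime 13) := ⟨by norm_num⟩
  set A := centralizer ({S.c} : Set G) with hA
  obtain ⟨q', hq'⟩ := exists_prime_orderOf_dvd_card' 13 h13
  set q : G := (q' : G) with hq
  have hqo : orderOf q = 13 := by rw [hq, orderOf_submonoid, hq']
  have hqc : q * S.c = S.c * q := mem_centralizer_singleton.mp q'.2
  set Q : Subgroup G := zpowers q with hQ
  have hQc : Nat.card Q = 13 ^ 1 := by rw [hQ, Nat.card_zpowers, hqo]; rfl
  have hQA : Q ≤ A := zpowers_le.mpr q'.2
  have mult : ∀ (H : Subgroup G) (P : Sylow 13 H), 13 ∣ Nat.card H → Nat.card P = 13 := by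
    intro H P h
    obtain ⟨k, hk⟩ := IsPGroup.iff_card.mp P.isPGroup'
    have h1 : 13 ^ k ∣ 5616 := hk ▸ hcard ▸
      ((Subgroup.card_subgroup_dvd_card (P : Subgroup H)).trans (Subgroup.card_subgroup_dvd_card H))
    have hk2 : k < 2 := by
      by_contra hlt
      have : 13 ^ 2 ∣ 5616 := (pow_dvd_pow 13 (not_lt.mp hlt)).trans h1
      revert this; decide
    have h2 : 13 ∣ Nat.card P := P.dvd_card_of_dvd_card h
    rw [hk] at h2 ⊢
    interval_cases k
    · norm_num at h2
    · rfl
  -- the number of Sylow 13-subgroups of G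
  obtain ⟨P, hP⟩ := (IsPGroup.of_card hQc).exists_le_sylow
  have hPQ : (P : Subgroup G) = Q := by
    refine (eq_of_le_of_card_ge hP ?_).symm
    obtain ⟨k, hk⟩ := IsPGroup.iff_card.mp P.isPGroup'
    have h1 : 13 ^ k ∣ 5616 := hk ▸ hcard ▸ Subgroup.card_subgroup_dvd_card (P : Subgroup G)
    have hk2 : k < 2 := by
      by_contra hlt
      have : 13 ^ 2 ∣ 5616 := (pow_dvd_pow 13 (not_lt.mp hlt)).trans h1
      revert this; decide
    rw [hk, hQc]
    exact Nat.pow_le_pow_right (by norm_num) (by omega)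
  set N : Subgroup G := normalizer (Q : Set G) with hN
  set n := Nat.card (Sylow 13 G) with hn
  have hn1 : n ≡ 1 [MOD 13] := card_sylow_modEq_one 13 G
  have hnidx : n = N.index := by
    rw [hn, P.card_eq_index_normalizer, hN, ← hPQ]; rfl
  have hQN : Q ≤ N := le_normalizer
  have hmul : Nat.card N * n = 5616 := by rw [hnidx, card_mul_index, hcard]
  have h13N : 13 ∣ Nat.card N := by
    have := card_dvd_of_le hQN; rwa [hQc, pow_one] at this
  have hcN : S.c ∈ N := by
    refine mem_normalizer_fintype fun y hy => ?_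
    obtain ⟨i, rfl⟩ := mem_zpowers_iff.mp hy
    rw [conj_eq_iff.mpr (Commute.zpow_right (show Commute S.c q from hqc.symm) i)]
    exact hy
  have h3N : 3 ∣ Nat.card N := S.orderOf_c ▸ N.orderOf_dvd_natCard hcN
  have hn432 : n ∣ 432 := by
    obtain ⟨k, hk⟩ := h13N
    rw [hk, mul_assoc] at hmul
    exact ⟨k, Nat.eq_of_mul_eq_mul_left (show 0 < 13 by norm_num) (by rw [mul_comm n k, hmul])⟩
  have hNproper : N ≠ ⊤ := by
    intro htop
    haveI : Q.Normal := normalizer_eq_top_iff.mp htop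
    rcases (inferInstance : Q.Normal).eq_bot_or_eq_top with h | h
    · rw [h, card_bot] at hQc; norm_num at hQc
    · rw [h, card_top, hcard] at hQc; norm_num at hQc
  have hn8 : 8 < n := hnidx ▸ eight_lt_index hcard hNproper
  have hN39 : Nat.card N = 39 := by
    have hn_le : n ≤ 432 := Nat.le_of_dvd (by norm_num) hn432
    obtain ⟨j, hj⟩ : ∃ j, n = 13 * j + 1 := ⟨n / 13, by
      have : n % 13 = 1 := hn1
      omega⟩
    have hjb : j ≤ 33 := by omega
    obtain ⟨m, hm⟩ := h3N
    rw [hj] at hmul hn432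
    interval_cases j <;> first
      | omega
      | (exfalso; revert hn432; decide)
  -- inside the centraliser of `c`
  have hNA : N ≤ A := by
    set L : Subgroup G := N ⊓ A with hL
    have h13L : 13 ∣ Nat.card L := by
      have := card_dvd_of_le (le_inf hQN hQA); rwa [hQc, pow_one] at this
    have h3L : 3 ∣ Nat.card L := S.orderOf_c ▸ L.orderOf_dvd_natCard
      (mem_inf.mpr ⟨hcN, S.c_mem_cent_c⟩)
    have h39 : 39 ∣ Nat.card L :=
      (show Nat.Coprime 13 3 by decide).mul_dvd_of_dvd_of_dvd h13L h3L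
    have : L = N := eq_of_le_of_card_ge inf_le_left (hN39 ▸ Nat.le_of_dvd Nat.card_pos h39)
    exact inf_eq_left.mp this
  have hQ'p : IsPGroup 13 (Q.subgroupOf A) := IsPGroup.of_card (n := 1)
    (by rw [Nat.card_congr (subgroupOfEquivOfLe hQA).toEquiv, hQc])
  obtain ⟨R, hR⟩ := hQ'p.exists_le_sylow
  have hRQ : (R : Subgroup A) = Q.subgroupOf A := (eq_of_le_of_card_ge hR (by
    rw [mult A R h13, Nat.card_congr (subgroupOfEquivOfLe hQA).toEquiv, hQc, pow_one])).symm
  set n' := Nat.card (Sylow 13 A) with hn'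
  have hn'1 : n' ≡ 1 [MOD 13] := card_sylow_modEq_one 13 A
  have hn'mul : n' * 39 = Nat.card A := by
    rw [hn', R.card_eq_index_normalizer]
    have e : normalizer (R : Set A) = N.subgroupOf A := by
      show normalizer ((R : Subgroup A) : Set A) = _
      rw [hRQ, hN, subgroupOf_normalizer_eq hQA]
    rw [e, ← hN39, ← Nat.card_congr (subgroupOfEquivOfLe hNA).toEquiv, mul_comm]
    exact card_mul_index _
  have h2A : 2 ∣ Nat.card A := S.ht ▸ A.orderOf_dvd_natCard S.t_mem_cent_c
  have hA5616 : Nat.card A ∣ 5616 := hcard ▸ Subgroup.card_subgroup_dvd_card A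
  have hn'144 : n' ∣ 144 := Nat.dvd_of_mul_dvd_mul_right (by norm_num : 0 < 39)
    (by rw [hn'mul]; exact hA5616)
  have hA_top : A = ⊤ := by
    refine eq_top_of_card_eq A ?_
    rw [hcard, ← hn'mul]
    have hle : n' ≤ 144 := Nat.le_of_dvd (by norm_num) hn'144
    obtain ⟨j, hj⟩ : ∃ j, n' = 13 * j + 1 := ⟨n' / 13, by
      have : n' % 13 = 1 := hn'1
      omega⟩
    have hjb : j ≤ 11 := by omega
    interval_cases j <;> first
      | omega
      | (exfalso; rw [hj] at hn'144; revert hn'144; decide)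
  exact S.e_not_comm_c (mem_centralizer_singleton.mp (hA_top ▸ mem_top S.e : S.e ∈ A))

theorem cent_ct_dvd_six :
    Nat.card (centralizer ({S.c} : Set G) ⊓ centralizer ({S.t} : Set G) : Subgroup G) ∣ 6 := by
  have hle : centralizer ({S.c} : Set G) ⊓ centralizer ({S.t} : Set G) ≤ zpowers (S.t * S.c) := by
    intro g hg
    obtain ⟨hgc, hgt⟩ := mem_inf.mp hg
    obtain ⟨i, h | h⟩ := S.cent_t_c (mem_centralizer_singleton.mp hgt)
      (mem_centralizer_singleton.mp hgc)
    all_goals
      have ht2 : S.t ^ 2 = 1 := by rw [← S.ht]; exact pow_orderOf_eq_one _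
      have hmul : ∀ k : ℕ, (S.t * S.c) ^ k = S.t ^ (k % 2) * S.c ^ (k % 3) := fun k => by
        rw [(show Commute S.t S.c from S.c_comm_t.symm).mul_pow, ← pow_eq_pow_mod k ht2,
          ← pow_mod_three S.c_pow_three k]
    · refine ⟨((4 * i : ℕ) : ℤ), ?_⟩
      dsimp only
      rw [zpow_natCast, hmul, h, show 4 * i % 2 = 0 by omega, show 4 * i % 3 = i % 3 by omega,
        pow_zero, one_mul, ← pow_mod_three S.c_pow_three]
    · refine ⟨((4 * i + 3 : ℕ) : ℤ), ?_⟩
      dsimp only
      rw [zpow_natCast, hmul, h, show (4 * i + 3) % 2 = 1 by omega,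
        show (4 * i + 3) % 3 = i % 3 by omega, pow_one, ← pow_mod_three S.c_pow_three]
  refine (card_dvd_of_le hle).trans ?_
  rw [Nat.card_zpowers]
  refine orderOf_dvd_of_pow_eq_one ?_
  rw [(show Commute S.t S.c from S.c_comm_t.symm).mul_pow, pow_eq_pow_mod 6
    (show S.t ^ 2 = 1 by rw [← S.ht]; exact pow_orderOf_eq_one _), pow_mod_three S.c_pow_three 6]
  simp

theorem four_not_dvd : ¬ 4 ∣ Nat.card (centralizer ({S.c} : Set G)) := by
  intro h4
  haveI : Fact (Nat.Prime 2) := ⟨Nat.prime_two⟩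
  set A := centralizer ({S.c} : Set G) with hA
  have hp : IsPGroup 2 (zpowers (⟨S.t, S.t_mem_cent_c⟩ : A)) := IsPGroup.of_card (n := 1)
    (by rw [Nat.card_zpowers, ← orderOf_submonoid, S.ht]; rfl)
  obtain ⟨T, hT⟩ := hp.exists_le_sylow
  have htT : (⟨S.t, S.t_mem_cent_c⟩ : A) ∈ (T : Subgroup A) := hT (mem_zpowers _)
  have hT4 : 4 ∣ Nat.card T := T.pow_dvd_card_of_pow_dvd_card (n := 2) h4
  haveI : Nontrivial (T : Subgroup A) := by
    refine Finite.one_lt_card_iff_nontrivial.mp ?_
    have := Nat.le_of_dvd Nat.card_pos hT4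
    omega
  haveI := T.isPGroup'.center_nontrivial
  obtain ⟨k, hk0, hk⟩ := (T.isPGroup'.to_subgroup (center (T : Subgroup A))).nontrivial_iff_card.mp
    inferInstance
  obtain ⟨z, hz⟩ := exists_prime_orderOf_dvd_card' 2
    (show 2 ∣ Nat.card (center (T : Subgroup A)) by rw [hk]; exact dvd_pow_self 2 (by omega))
  set z' : G := (((z : (T : Subgroup A)) : A) : G) with hz'
  have hz'2 : orderOf z' = 2 := by
    rw [hz', orderOf_submonoid, orderOf_submonoid, orderOf_submonoid, hz]
  have hcomm : ∀ y : A, y ∈ (T : Subgroup A) → (y : G) * z' = z' * (y : G) := fun y hy =>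
    congrArg (fun a : (T : Subgroup A) => ((a : A) : G)) (mem_center_iff.mp z.2 ⟨y, hy⟩)
  have hzc : z' * S.c = S.c * z' := mem_centralizer_singleton.mp ((z : (T : Subgroup A)) : A).2
  have hzt : z' = S.t := by
    obtain ⟨i, h | h⟩ := S.cent_t_c (hcomm _ htT).symm hzc
    all_goals
      have h1 : z' ^ 2 = 1 := by rw [← hz'2]; exact pow_orderOf_eq_one z'
      rw [h] at h1
    · exfalso
      rw [← pow_mul] at h1
      have := orderOf_dvd_of_pow_eq_one h1
      rw [S.orderOf_c] at this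
      rw [h, pow_mod_three S.c_pow_three, show i % 3 = 0 by omega, pow_zero, orderOf_one] at hz'2
      omega
    · rw [(show Commute S.t (S.c ^ i) from Commute.pow_right S.c_comm_t.symm i).mul_pow,
        show S.t ^ 2 = 1 by rw [← S.ht]; exact pow_orderOf_eq_one _, one_mul, ← pow_mul] at h1
      have := orderOf_dvd_of_pow_eq_one h1
      rw [S.orderOf_c] at this
      rw [h, pow_mod_three S.c_pow_three, show i % 3 = 0 by omega, pow_zero, mul_one]
  have hle : (T : Subgroup A).map A.subtype ≤ A ⊓ centralizer ({S.t} : Set G) := by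
    rintro g ⟨y, hy, rfl⟩
    exact mem_inf.mpr ⟨y.2, mem_centralizer_singleton.mpr (hzt ▸ hcomm y hy)⟩
  have h6 := (card_dvd_of_le hle).trans S.cent_ct_dvd_six
  rw [Nat.card_congr ((T : Subgroup A).equivMapOfInjective A.subtype A.subtype_injective).toEquiv.symm] at h6
  exact absurd (hT4.trans h6) (by decide)

include hcard in
theorem exists_card_cent_c : ∃ a : ℕ, 1 ≤ a ∧ a ≤ 3 ∧
    Nat.card (centralizer ({S.c} : Set G)) = 2 * 3 ^ a := by
  set A := centralizer ({S.c} : Set G) with hA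
  have h2A : 2 ∣ Nat.card A := S.ht ▸ A.orderOf_dvd_natCard S.t_mem_cent_c
  have h3A : 3 ∣ Nat.card A := S.orderOf_c ▸ A.orderOf_dvd_natCard S.c_mem_cent_c
  have hA5616 : Nat.card A ∣ 432 * 13 := by
    have := Subgroup.card_subgroup_dvd_card A
    rwa [hcard] at this
  have hA432 : Nat.card A ∣ 432 := by
    refine Nat.Coprime.dvd_of_dvd_mul_right ?_ hA5616
    exact ((Nat.Prime.coprime_iff_not_dvd (by norm_num)).mpr (S.thirteen_not_dvd hcard)).symm
  have h4 := S.four_not_dvd
  rw [← hA] at h4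
  obtain ⟨m, hm⟩ := h2A
  have hmodd : ¬ 2 ∣ m := fun h => h4 (by rw [hm]; exact Nat.mul_dvd_mul_left 2 h)
  have hm216 : m ∣ 8 * 3 ^ 3 := Nat.dvd_of_mul_dvd_mul_left (by norm_num : 0 < 2) (hm ▸ hA432)
  have hm27 : m ∣ 3 ^ 3 := by
    refine Nat.Coprime.dvd_of_dvd_mul_left ?_ hm216
    exact Nat.Coprime.pow_right 3 ((Nat.Prime.coprime_iff_not_dvd Nat.prime_two).mpr hmodd).symm
  obtain ⟨a, ha, rfl⟩ := (Nat.dvd_prime_pow Nat.prime_three).mp hm27
  refine ⟨a, ?_, ha, hm⟩
  by_contra h0
  rw [show a = 0 by omega, pow_zero, mul_one] at hm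
  rw [hm] at h3A
  omega

include hcard in
theorem nine_dvd : 9 ∣ Nat.card (centralizer ({S.c} : Set G)) := by
  haveI : Fact (Nat.Prime 3) := ⟨Nat.prime_three⟩
  set A := centralizer ({S.c} : Set G) with hA
  have hp : IsPGroup 3 (zpowers S.c) := IsPGroup.of_card (n := 1)
    (by rw [Nat.card_zpowers, S.orderOf_c]; rfl)
  obtain ⟨P, hP⟩ := hp.exists_le_sylow
  have hP27 : Nat.card P = 27 := by
    obtain ⟨k, hk⟩ := IsPGroup.iff_card.mp P.isPGroup'
    have h1 : 3 ^ k ∣ 5616 := hk ▸ hcard ▸ Subgroup.card_subgroup_dvd_card (P : Subgroup G)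
    have hk2 : k < 4 := by
      by_contra hlt
      have : 3 ^ 4 ∣ 5616 := (pow_dvd_pow 3 (not_lt.mp hlt)).trans h1
      revert this; decide
    have h3 : 3 ^ 3 ∣ Nat.card P := P.pow_dvd_card_of_pow_dvd_card (hcard ▸ by norm_num)
    rw [hk] at h3 ⊢
    interval_cases k
    all_goals first
      | rfl
      | (norm_num at h3)
  haveI : Nontrivial (P : Subgroup G) := Finite.one_lt_card_iff_nontrivial.mp (by omega)
  haveI := P.isPGroup'.center_nontrivial
  obtain ⟨k, hk0, hk⟩ := (P.isPGroup'.to_subgroup (center (P : Subgroup G))).nontrivial_iff_card.mp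
    inferInstance
  obtain ⟨z', hz'⟩ := exists_prime_orderOf_dvd_card' 3
    (show 3 ∣ Nat.card (center (P : Subgroup G)) by rw [hk]; exact dvd_pow_self 3 (by omega))
  set z : G := ((z' : (P : Subgroup G)) : G) with hz
  have hzo : orderOf z = 3 := by rw [hz, orderOf_submonoid, orderOf_submonoid, hz']
  have hcomm : ∀ y ∈ (P : Subgroup G), Commute y z := fun y hy =>
    congrArg Subtype.val (mem_center_iff.mp z'.2 ⟨y, hy⟩)
  have hcP : S.c ∈ (P : Subgroup G) := hP (mem_zpowers _)
  by_cases hzc : ∃ i : ℕ, z = S.c ^ i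
  · obtain ⟨i, hi⟩ := hzc
    have hi' : i % 3 ≠ 0 := fun h => by
      rw [hi, pow_mod_three S.c_pow_three, h, pow_zero, orderOf_one] at hzo; omega
    have hc : S.c = z ^ i := by
      rw [hi, ← pow_mul, pow_mod_three S.c_pow_three, Nat.mul_mod]
      rcases (show i % 3 = 1 ∨ i % 3 = 2 by omega) with h | h <;> simp [h]
    have hPA : (P : Subgroup G) ≤ A := fun y hy => mem_centralizer_singleton.mpr
      (hc ▸ (hcomm y hy).pow_right i).eq
    exact (show 9 ∣ 27 by norm_num).trans (hP27 ▸ card_dvd_of_le hPA)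
  · have hz3 : z ^ 3 = 1 := hzo ▸ pow_orderOf_eq_one z
    have hle : pair3 S.c z S.c_pow_three hz3 (hcomm _ hcP) ≤ A :=
      pair3_le _ _ _ S.c_mem_cent_c (mem_centralizer_singleton.mpr (hcomm _ hcP).symm.eq)
    have := card_dvd_of_le hle
    rwa [card_pair3 _ _ _ (fun i h => hzc ⟨i, h⟩) S.c_ne_one] at this

end Setup

end Cfsg.Agent.GL23Inv
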