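import Cfsg.Agent.L33Rec.Sylow27

/-!
# A self-centralising elementary group of order nine with normaliser of index 13
-/

set_option autoImplicit false
set_option linter.unusedSectionVars false
set_option maxHeartbeats 1000000

namespace Cfsg.Agent.L33Rec

open Subgroup

variable {G : Type*} [Group G] [Finite G]

/-- What the recognition of the plane needs from the group. -/
structure PlaneData (E : Subgroup G) : Prop where
  card : Nat.card E = 9
  exponent : ∀ x ∈ E, x ^ 3 = 1
  comm : ∀ x ∈ E, ∀ y ∈ E, Commute x y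
  selfCent : ∀ g : G, (∀ x ∈ E, g * x = x * g) → g ∈ E
  index : (normalizer (E : Set G)).index = 13
  trans : ∀ x ∈ E, x ≠ 1 → ∀ y ∈ E, y ≠ 1 →
    ∃ n ∈ normalizer (E : Set G), n * x * n⁻¹ = y

theorem mem_normalizer_pair3 {z w : G} (hz : z ^ 3 = 1) (hw : w ^ 3 = 1) (hzw : Commute z w) {n : G}
    (h1 : n * z * n⁻¹ ∈ pair3 z w hz hw hzw) (h2 : n * w * n⁻¹ ∈ pair3 z w hz hw hzw) :
    n ∈ normalizer (pair3 z w hz hw hzw : Set G) := by
  refine mem_normalizer_fintype ?_
  rintro _ ⟨i, j, rfl⟩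
  rw [SetLike.mem_coe, ← MulAut.conj_apply, map_mul, map_pow, map_pow, MulAut.conj_apply,
    MulAut.conj_apply]
  exact mul_mem (pow_mem h1 i) (pow_mem h2 j)

end Cfsg.Agent.L33Rec

namespace Cfsg.Agent.GL23Inv

open Subgroup Cfsg.Agent.Involution Cfsg.Agent.L33Rec

namespace Setup

variable {G : Type*} [Group G] [Finite G] [IsSimpleGroup G] (S : Setup G)
  (hcard : Nat.card G = 5616)

include S hcard in
theorem exists_planeData : ∃ E : Subgroup G, PlaneData E := by
  haveI : Fact (Nat.Prime 3) := ⟨Nat.prime_three⟩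
  haveI : Fact (Nat.Prime 2) := ⟨Nat.prime_two⟩
  set A := centralizer ({S.c} : Set G) with hAdef
  obtain ⟨P₀, hP₀⟩ := Sylow.exists_subgroup_card_pow_prime (G := A) 3 (n := 3)
    (by rw [S.card_cent_c hcard]; norm_num)
  set P : Subgroup G := P₀.map A.subtype with hPdef
  have hPA : P ≤ A := map_subtype_le P₀
  have hP : Nat.card P = 27 := by
    rw [hPdef, ← Nat.card_congr (P₀.equivMapOfInjective A.subtype A.subtype_injective).toEquiv, hP₀]
    rfl
  have hA2 : Nat.card A = 2 * Nat.card P := by rw [S.card_cent_c hcard, hP]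
  have hPodd : Odd (Nat.card P) := S.P_odd hP
  have hcP := S.c_mem_P hcard hPA hP
  obtain ⟨a, haP, ha3, hanc, hwa, hta, hac⟩ :=
    S.exists_fixed hcard hPA hP S.orderOf_w S.w_comm_t S.w_conj_c
  have hPc : ∀ y ∈ P, Commute y S.c := fun y hy => mem_centralizer_singleton.mp (hPA hy)
  have hca : Commute S.c a := (hPc a haP).symm
  have ha1 : a ≠ 1 := fun h => hanc 0 (by rw [h, pow_zero])
  set E : Subgroup G := pair3 S.c a S.c_pow_three ha3 hca with hEdef
  have hE : Nat.card E = 9 := card_pair3 _ _ _ hanc S.c_ne_one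
  have hEP : E ≤ P := pair3_le _ _ _ hcP haP
  have hcE : S.c ∈ E := left_mem_pair3 _ _ _
  have haE : a ∈ E := right_mem_pair3 _ _ _
  have hnonc : ∀ b ∈ P, b ^ 3 = 1 → (∀ i : ℕ, b ≠ S.c ^ i) → (hb : Commute S.c b) →
      ∃ p ∈ P, ¬ Commute p b := by
    intro b hbP hb3 hbnc hcb
    by_contra h
    push Not at h
    refine S.not_comm hcard hPA hP (commute_of_central_nine
      (pair3_le S.c_pow_three hb3 hcb hcP hbP) (card_pair3 _ _ _ hbnc S.c_ne_one) hP ?_)
    rintro _ ⟨i, j, rfl⟩ p hp
    exact ((hPc p hp).symm.pow_left i).mul_left ((h p hp).symm.pow_left j)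
  -- the centraliser of `E`
  have hself : ∀ g : G, (∀ x ∈ E, g * x = x * g) → g ∈ E := by
    intro g hg
    set C : Subgroup G := A ⊓ centralizer ({a} : Set G) with hC
    have hEC : E ≤ C := fun x hx => mem_inf.mpr
      ⟨mem_centralizer_singleton.mpr (comm_pair3 _ _ _ hx hcE).eq,
        mem_centralizer_singleton.mpr (comm_pair3 _ _ _ hx haE).eq⟩
    have hgC : g ∈ C := mem_inf.mpr ⟨mem_centralizer_singleton.mpr (hg _ hcE),
      mem_centralizer_singleton.mpr (hg _ haE)⟩
    have hodd : Odd (Nat.card C) := by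
      refine Nat.not_even_iff_odd.mp fun hev => ?_
      obtain ⟨v', hv'⟩ := exists_prime_orderOf_dvd_card' 2 hev.two_dvd
      have hv2 : orderOf (v' : G) = 2 := by rw [orderOf_submonoid, hv']
      have hle : E ≤ centralizer ({(v' : G)} : Set G) := by
        rintro _ ⟨i, j, rfl⟩
        have h1 : Commute S.c (v' : G) := (mem_centralizer_singleton.mp (mem_inf.mp v'.2).1).symm
        have h2 : Commute a (v' : G) := (mem_centralizer_singleton.mp (mem_inf.mp v'.2).2).symm
        exact mem_centralizer_singleton.mpr ((h1.pow_left i).mul_left (h2.pow_left j)).eq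
      have := S.card_le_three S.not_index_two hv2 hle (a := 2) (by rw [hE]; norm_num)
      rw [hE] at this
      norm_num at this
    have hCP : C ≤ P := fun x hx => mem_of_odd_of_double hPA hA2 (mem_inf.mp hx).1
      (odd_orderOf_mem hodd hx)
    obtain ⟨p, hpP, hpa⟩ := hnonc a haP ha3 hanc hca
    obtain ⟨k, hk3, hk⟩ := (Nat.dvd_prime_pow Nat.prime_three).mp
      (show Nat.card C ∣ 3 ^ 3 by have := card_dvd_of_le hCP; rwa [hP] at this)
    have hne : Nat.card C ≠ 27 := fun h27 => by
      have : C = P := eq_of_le_of_card_ge hCP (by omega)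
      exact hpa (mem_centralizer_singleton.mp (mem_inf.mp (this.symm ▸ hpP : p ∈ C)).2)
    have h9 : Nat.card C ≤ 9 := by
      rw [hk] at hne ⊢
      interval_cases k <;> simp_all
    exact (eq_of_le_of_card_ge hEC (by omega)).symm ▸ hgC
  set N := normalizer (E : Set G) with hN
  have hPN : P ≤ N := fun p hp => mem_normalizer_fintype fun x hx =>
    conj_mem_of_nine hEP hE hP hp hx
  have htN : S.t ∈ N := by
    refine mem_normalizer_pair3 _ _ _ ?_ ?_
    · rw [S.t_inv, S.t_conj_c]; exact hcE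
    · rw [S.t_inv, hta]; exact inv_mem haE
  have hwi : S.w⁻¹ = S.w := inv_eq_of_mul_eq_one_right S.w_mul_self
  have hwN : S.w ∈ N := by
    refine mem_normalizer_pair3 _ _ _ ?_ ?_
    · rw [hwi, S.w_conj_c]; exact inv_mem hcE
    · rw [hwi, hwa]; exact haE
  have hAN : A ≤ N := by
    intro g hg
    by_cases hgP : g ∈ P
    · exact hPN hgP
    · have htP : S.t ∉ P := fun h => by
        have := P.orderOf_dvd_natCard h
        rw [S.ht, hP] at this
        omega
      have := mul_mem_of_double hPA hA2 S.t_mem_cent_c hg htP hgP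
      rw [show g = S.t⁻¹ * (S.t * g) by group]
      exact mul_mem (inv_mem htN) (hPN this)
  -- a normalising element fixing `a` and moving `c`
  obtain ⟨g, hg⟩ := isConj_iff.mp hac.symm
  set a' : G := g⁻¹ * S.c * g with ha'
  have hga' : g * a' * g⁻¹ = S.c := by rw [ha']; group
  have hca' : Commute S.c a' := by
    show S.c * (g⁻¹ * S.c * g) = g⁻¹ * S.c * g * S.c
    calc S.c * (g⁻¹ * S.c * g) = g⁻¹ * ((g * S.c * g⁻¹) * S.c) * g := by group
      _ = g⁻¹ * (S.c * (g * S.c * g⁻¹)) * g := by rw [hg, hca.symm.eq]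
      _ = g⁻¹ * S.c * g * S.c := by group
  have ha'3 : a' ^ 3 = 1 := by
    have : a' = MulAut.conj g⁻¹ S.c := by rw [MulAut.conj_apply, inv_inv, ha']
    rw [this, ← map_pow, S.c_pow_three, map_one]
  have ha'nc : ∀ i : ℕ, a' ≠ S.c ^ i := by
    intro i hi
    refine hanc i ?_
    rw [hi, ← MulAut.conj_apply, map_pow, MulAut.conj_apply, hg] at hga'
    have h3 : i % 3 ≠ 0 := fun h => S.c_ne_one (by
      rw [← hga', pow_mod_three ha3, h, pow_zero])
    rw [← hga', ← pow_mul, pow_mod_three ha3, Nat.mul_mod]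
    rcases (show i % 3 = 1 ∨ i % 3 = 2 by omega) with h | h <;> rw [h] <;> simp
  have ha'P : a' ∈ P := S.mem_P hcard hPA hP (mem_centralizer_singleton.mpr hca'.symm.eq)
    (odd_orderOf_pow_three ha'3)
  obtain ⟨r, hrP, hra⟩ := hnonc a' ha'P ha'3 ha'nc hca'
  obtain ⟨b, hb3, hb⟩ := conj_right_pair3 S.c_pow_three ha'3 hca' ha'nc
    (odd_orderOf_mem hPodd hrP) (hPc r hrP).eq
    (conj_mem_of_nine (pair3_le _ _ _ hcP ha'P) (card_pair3 _ _ _ ha'nc S.c_ne_one) hP hrP
      (right_mem_pair3 _ _ _))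
  have hb0 : b ≠ 0 := fun h => hra (by
    rw [h, pow_zero, one_mul, conj_eq_iff] at hb; exact hb)
  set n : G := g * r * g⁻¹ with hn
  have hna : n * a * n⁻¹ = a := by
    rw [hn, ← hg]
    calc g * r * g⁻¹ * (g * S.c * g⁻¹) * (g * r * g⁻¹)⁻¹ = g * (r * S.c * r⁻¹) * g⁻¹ := by group
      _ = g * S.c * g⁻¹ := by rw [conj_eq_iff.mpr (hPc r hrP).eq]
  have hnc : n * S.c * n⁻¹ = a ^ b * S.c := by
    conv_lhs => rw [hn, ← hga']
    calc g * r * g⁻¹ * (g * a' * g⁻¹) * (g * r * g⁻¹)⁻¹ = g * (r * a' * r⁻¹) * g⁻¹ := by group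
      _ = MulAut.conj g (S.c ^ b * a') := by rw [hb, MulAut.conj_apply]
      _ = _ := by rw [map_mul, map_pow, MulAut.conj_apply, MulAut.conj_apply, hg, hga']
  have hnN : n ∈ N := mem_normalizer_pair3 _ _ _
    (by rw [hnc]; exact mul_mem (pow_mem haE b) hcE) (by rw [hna]; exact haE)
  obtain ⟨p, hpP, hpa⟩ := hnonc a haP ha3 hanc hca
  obtain ⟨d, hd3, hd⟩ := conj_right_pair3 S.c_pow_three ha3 hca hanc
    (odd_orderOf_mem hPodd hpP) (hPc p hpP).eq (conj_mem_of_nine hEP hE hP hpP haE)
  have hd0 : d ≠ 0 := fun h => hpa (by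
    rw [h, pow_zero, one_mul, conj_eq_iff] at hd; exact hd)
  have hnk : ∀ k : ℕ, n ^ k * S.c * (n ^ k)⁻¹ = a ^ (k * b) * S.c := by
    intro k
    induction k with
    | zero => simp
    | succ k ih =>
      calc n ^ (k + 1) * S.c * (n ^ (k + 1))⁻¹ = n * (n ^ k * S.c * (n ^ k)⁻¹) * n⁻¹ := by
            rw [pow_succ']; group
        _ = MulAut.conj n (a ^ (k * b) * S.c) := by rw [ih, MulAut.conj_apply]
        _ = _ := by rw [map_mul, map_pow, MulAut.conj_apply, MulAut.conj_apply, hna, hnc,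
              ← mul_assoc, ← pow_add, Nat.add_mul, one_mul]
  have hpk : ∀ k : ℕ, p ^ k * a * (p ^ k)⁻¹ = S.c ^ (k * d) * a := by
    intro k
    induction k with
    | zero => simp
    | succ k ih =>
      calc p ^ (k + 1) * a * (p ^ (k + 1))⁻¹ = p * (p ^ k * a * (p ^ k)⁻¹) * p⁻¹ := by
            rw [pow_succ']; group
        _ = MulAut.conj p (S.c ^ (k * d) * a) := by rw [ih, MulAut.conj_apply]
        _ = _ := by rw [map_mul, map_pow, MulAut.conj_apply, MulAut.conj_apply,
              conj_eq_iff.mpr (hPc p hpP).eq, hd, ← mul_assoc, ← pow_add, Nat.add_mul, one_mul]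
  -- every element of `E` other than one is a conjugate of `c`
  have horbit : ∀ x ∈ E, x ≠ 1 → ∃ m ∈ N, m * S.c * m⁻¹ = x := by
    intro x hx hx1
    obtain ⟨i, j, hi, hj, rfl⟩ := exists_lt_of_mem_pair3 _ _ _ hx
    rcases Nat.eq_zero_or_pos j with rfl | hjpos
    · rw [pow_zero, mul_one]
      rcases (show i = 0 ∨ i = 1 ∨ i = 2 by omega) with rfl | rfl | rfl
      · simp at hx1
      · exact ⟨1, one_mem N, by simp⟩
      · refine ⟨S.w, hwN, ?_⟩
        rw [hwi, S.w_conj_c]
        exact inv_eq_of_mul_eq_one_right (by rw [← pow_succ', S.c_pow_three])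
    · refine ⟨p ^ ((i + 2) * d * j) * n ^ (j * b), mul_mem (hPN (pow_mem hpP _)) (pow_mem hnN _), ?_⟩
      set k := (i + 2) * d * j with hk
      have hkd : (k * d * j + 1) % 3 = i := by
        rw [hk]
        interval_cases i <;> interval_cases d <;> interval_cases j <;> first | omega | rfl
      calc p ^ k * n ^ (j * b) * S.c * (p ^ k * n ^ (j * b))⁻¹
          = p ^ k * (n ^ (j * b) * S.c * (n ^ (j * b))⁻¹) * (p ^ k)⁻¹ := by group
        _ = MulAut.conj (p ^ k) (a ^ j * S.c) := by
            rw [hnk, MulAut.conj_apply, pow_mod_three ha3 (j * b * b)]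
            congr 3
            rw [← pow_mod_three ha3]
            conv_rhs => rw [pow_mod_three ha3]
            rw [pow_mod_three ha3]
            congr 1
            interval_cases b <;> interval_cases j <;> first | omega | rfl
        _ = (S.c ^ (k * d) * a) ^ j * S.c := by
            rw [map_mul, map_pow, MulAut.conj_apply, MulAut.conj_apply, hpk,
              conj_eq_iff.mpr ((hPc p hpP).pow_left k).eq]
        _ = S.c ^ i * a ^ j := by
            rw [((hca.pow_left (k * d))).mul_pow, ← pow_mul, mul_assoc, ← (hca.pow_right j).eq,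
              ← mul_assoc, ← pow_succ, pow_mod_three S.c_pow_three, hkd]
  refine ⟨E, hE, fun x hx => pow_three_pair3 _ _ _ hx, fun x hx y hy => comm_pair3 _ _ _ hx hy,
    hself, ?_, ?_⟩
  · let f : N ⧸ A.subgroupOf N → {x : E // x ≠ 1} := fun q =>
      Quotient.liftOn' q (fun m => ⟨⟨(m : G) * S.c * (m : G)⁻¹,
        (mem_normalizer_iff.mp m.2 S.c).mp hcE⟩, fun h => S.c_ne_one (by
          have h' := congrArg Subtype.val h
          simp only [OneMemClass.coe_one, conj_eq_one_iff] at h'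
          exact h')⟩) (by
        intro m m' h
        have h0 : m⁻¹ * m' ∈ A.subgroupOf N := QuotientGroup.leftRel_apply.mp h
        have h' : (m : G)⁻¹ * m' ∈ A := h0
        have hc := mem_centralizer_singleton.mp h'
        apply Subtype.ext; apply Subtype.ext
        show (m : G) * S.c * (m : G)⁻¹ = (m' : G) * S.c * (m' : G)⁻¹
        calc (m : G) * S.c * (m : G)⁻¹ = (m : G) * (S.c * ((m : G)⁻¹ * m')) * (m' : G)⁻¹ := by group
          _ = (m : G) * ((m : G)⁻¹ * m' * S.c) * (m' : G)⁻¹ := by rw [hc]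
          _ = _ := by group)
    have hf : Function.Bijective f := by
      refine ⟨?_, ?_⟩
      · intro q q'
        induction q, q' using Quotient.inductionOn₂' with | _ m m'
        intro h
        have h' : (m : G) * S.c * (m : G)⁻¹ = (m' : G) * S.c * (m' : G)⁻¹ :=
          congrArg (fun y : {x : E // x ≠ 1} => ((y : E) : G)) h
        refine Quotient.sound' (QuotientGroup.leftRel_apply.mpr ?_)
        show (m : G)⁻¹ * m' ∈ A
        refine mem_centralizer_singleton.mpr ?_
        calc (m : G)⁻¹ * m' * S.c = (m : G)⁻¹ * ((m' : G) * S.c * (m' : G)⁻¹) * m' := by group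
          _ = (m : G)⁻¹ * ((m : G) * S.c * (m : G)⁻¹) * m' := by rw [h']
          _ = _ := by group
      · intro x
        obtain ⟨m, hm, hmx⟩ := horbit x x.1.2 (fun h => x.2 (Subtype.ext h))
        exact ⟨QuotientGroup.mk ⟨m, hm⟩, Subtype.ext (Subtype.ext hmx)⟩
    have h8 : (A.subgroupOf N).index = 8 := by
      classical
      haveI := Fintype.ofFinite E
      rw [index_eq_card, Nat.card_eq_of_bijective f hf, Nat.card_eq_fintype_card,
        Fintype.card_subtype_compl, Fintype.card_subtype_eq, ← Nat.card_eq_fintype_card, hE]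
    have h := (A.subgroupOf N).card_mul_index
    rw [Nat.card_congr (subgroupOfEquivOfLe hAN).toEquiv, S.card_cent_c hcard, h8] at h
    have h2 := N.card_mul_index
    rw [← h, hcard] at h2
    show N.index = 13
    omega
  · intro x hx hx1 y hy hy1
    obtain ⟨m, hm, hmx⟩ := horbit x hx hx1
    obtain ⟨m', hm', hmy⟩ := horbit y hy hy1
    refine ⟨m' * m⁻¹, mul_mem hm' (inv_mem hm), ?_⟩
    rw [← hmx, ← hmy]
    group

end Setup

end Cfsg.Agent.GL23Inv
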