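import Cfsg.Agent.Lib.Steiner.Search
import Cfsg.Agent.Lib.Steiner.Inter
import Cfsg.Agent.Lib.Steiner.AutSearch

/-!
# The projective plane of order three: uniqueness and the order of its automorphism group
-/

set_option autoImplicit false
set_option maxRecDepth 100000

namespace Cfsg.Agent.L33Rec

open Cfsg.Agent.Steiner

/-- Blocks of the model of `S(1, 3, 12)`. -/
def model12 : List ℕ := [7, 56, 448, 3584]

def perms12 : List (List ℕ) := [[0, 1, 2, 3, 4, 5, 6, 7, 8, 9, 10, 11]]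

theorem model12_lt : ∀ x ∈ model12, x < 2 ^ 12 := by decide +kernel

theorem check12 :
    checkUnique 12 1 true [] (cands0 12 3 1 []) perms12 model12 7 = true := by
  decide +kernel

theorem normalForm12 (B : Set (Finset (Fin 12))) (hB : Cfsg.IsSteinerSystem 1 3 B) :
    ∃ e : Equiv.Perm (Fin 12), (fun s : Finset (Fin 12) => s.image e) '' B = decSet 12 model12 := by
  exact exists_perm_of_checkUnique (complete_cands0 12 3 1 []) check12 hB (by simp) (by decide +kernel)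
    (by decide)

/-- Blocks of the plane of order three. -/
def model13 : List ℕ := [585, 660, 802, 1106, 1185, 1292, 2148, 2186, 2321, 4103, 4152, 4544, 7680]

def perms13 : List (List ℕ) :=
  [[0, 1, 2, 3, 4, 5, 6, 7, 8, 9, 11, 10, 12],
    [0, 1, 2, 3, 4, 5, 9, 11, 10, 6, 7, 8, 12]]

theorem model13_lt : ∀ x ∈ model13, x < 2 ^ 13 := by decide +kernel

theorem check13 :
    checkUnique 13 2 true (model12.map (· ||| 2 ^ 12))
      (cands0 13 4 2 (model12.map (· ||| 2 ^ 12))) perms13 model13 14 = true := by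
  decide +kernel

/-- Every `S(2, 4, 13)` on `Fin 13` is a relabelling of the model. -/
theorem normalForm13 (B : Set (Finset (Fin 13))) (hB : Cfsg.IsSteinerSystem 2 4 B) :
    ∃ e : Equiv.Perm (Fin 13), (fun s : Finset (Fin 13) => s.image e) '' B = decSet 13 model13 := by
  obtain ⟨e, he⟩ := exists_perm_step normalForm12 model12_lt hB
  obtain ⟨f, hf⟩ := exists_perm_of_checkUnique
    (complete_cands0 13 4 2 (model12.map (· ||| 2 ^ 12))) check13
    (steiner_image hB e) he (by decide +kernel)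
    (by decide)
  refine ⟨e.trans f, ?_⟩
  rw [← hf, Set.image_image]
  simp only [Finset.image_image]
  rfl

/-- Automorphisms giving 2-transitivity. -/
def autTrans13 : List (List ℕ) :=
  [[0, 1, 2, 3, 4, 5, 6, 7, 8, 9, 10, 11, 12],
    [1, 0, 2, 3, 4, 5, 11, 9, 10, 7, 8, 6, 12],
    [2, 0, 1, 3, 4, 5, 8, 6, 7, 10, 11, 9, 12],
    [3, 0, 6, 1, 5, 8, 7, 2, 4, 11, 10, 12, 9],
    [4, 0, 8, 1, 3, 7, 6, 2, 5, 10, 9, 12, 11],
    [5, 0, 7, 1, 4, 6, 8, 2, 3, 9, 11, 12, 10],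
    [6, 0, 3, 1, 5, 8, 10, 12, 11, 4, 7, 2, 9],
    [7, 0, 5, 1, 4, 6, 11, 12, 9, 3, 8, 2, 10],
    [8, 0, 4, 1, 3, 7, 9, 12, 10, 5, 6, 2, 11],
    [9, 0, 3, 1, 4, 10, 8, 12, 7, 5, 11, 2, 6],
    [10, 0, 5, 1, 3, 11, 6, 12, 8, 4, 9, 2, 7],
    [11, 0, 4, 1, 5, 9, 7, 12, 6, 3, 10, 2, 8],
    [12, 0, 1, 3, 8, 10, 4, 9, 7, 5, 11, 6, 2],
    [0, 1, 2, 3, 4, 5, 6, 7, 8, 9, 10, 11, 12],
    [0, 2, 1, 3, 4, 5, 9, 10, 11, 6, 7, 8, 12],
    [0, 3, 6, 1, 5, 8, 12, 11, 10, 2, 4, 7, 9],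
    [0, 4, 8, 1, 3, 7, 12, 10, 9, 2, 5, 6, 11],
    [0, 5, 7, 1, 4, 6, 12, 9, 11, 2, 3, 8, 10],
    [0, 6, 3, 1, 5, 8, 2, 4, 7, 12, 11, 10, 9],
    [0, 7, 5, 1, 4, 6, 2, 3, 8, 12, 9, 11, 10],
    [0, 8, 4, 1, 3, 7, 2, 5, 6, 12, 10, 9, 11],
    [0, 9, 3, 1, 4, 10, 2, 5, 11, 12, 7, 8, 6],
    [0, 10, 5, 1, 3, 11, 2, 4, 9, 12, 8, 6, 7],
    [0, 11, 4, 1, 5, 9, 2, 3, 10, 12, 6, 7, 8],
    [0, 12, 1, 3, 8, 10, 6, 5, 11, 9, 7, 4, 2]]

theorem checkAut13 : checkAut 13 2 2 model13 autTrans13 36 = true := by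
  decide +kernel

theorem autFacts13 : AutFacts (decSet 13 model13) 2 36 :=
  autFacts_of_checkAut (by decide) model13_lt checkAut13

theorem card_aut_model : Nat.card (Cfsg.setSystemAut (decSet 13 model13)) = 5616 := by
  have hT := autFacts13.transitive
  let x : Fin 2 ↪ Fin 13 := Fin.castLEEmb (by norm_num)
  have h := (MulAction.stabilizer (Cfsg.setSystemAut (decSet 13 model13)) x).card_mul_index
  rw [autFacts13.card_stabilizer x, @MulAction.index_stabilizer_of_transitive _ _ _ _ x hT] at h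
  rw [← h, Nat.card_eq_fintype_card, Fintype.card_embedding_eq]
  rfl

/-- The automorphism group of any `S(2, 4, 13)` has order 5616. -/
theorem aut_equiv_model {α : Type*} [Fintype α] [DecidableEq α] (hα : Fintype.card α = 13)
    {B : Set (Finset α)} (hB : Cfsg.IsSteinerSystem 2 4 B) :
    Nonempty (Cfsg.setSystemAut B ≃* Cfsg.setSystemAut (decSet 13 model13)) := by
  let a := Fintype.equivFinOfCardEq hα
  obtain ⟨e, he⟩ := normalForm13 _ (steiner_image hB a)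
  rw [Set.image_image] at he
  simp only [Finset.image_image] at he
  obtain ⟨f, -⟩ := exists_mulEquiv_setSystemAut (B := B) (B' := decSet 13 model13) (a.trans e) he
  exact ⟨f⟩

end Cfsg.Agent.L33Rec
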