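import Cfsg.Agent.L33Rec.Lines
import Cfsg.Agent.L33Rec.Plane

/-!
# The projective plane on the cosets of the normaliser
-/

set_option autoImplicit false
set_option linter.unusedSectionVars false
set_option maxHeartbeats 1000000

namespace Cfsg.Agent.L33Rec

open Subgroup Cfsg.Agent.Steiner

variable {G : Type*} [Group G] [Finite G] [IsSimpleGroup G] {E : Subgroup G}

/-- The coset space of the normaliser. -/
abbrev Pt (E : Subgroup G) := G ⧸ normalizer (E : Set G)

/-- The base point. -/
def base (E : Subgroup G) : Pt E := ((1 : G) : Pt E)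

theorem card_pt (D : PlaneData E) : Nat.card (Pt E) = 13 := by
  rw [← index_eq_card, D.index]

theorem smul_base_eq_iff {g : G} : g • base E = base E ↔ g ∈ normalizer (E : Set G) := by
  rw [← MulAction.mem_stabilizer_iff, base, MulAction.stabilizer_quotient]

theorem faithful (D : PlaneData E) {g : G} (h : ∀ p : Pt E, g • p = p) : g = 1 := by
  have hg : g ∈ (MulAction.toPermHom G (Pt E)).ker := by
    rw [MonoidHom.mem_ker]
    ext p
    exact h p
  rcases (inferInstance : (MulAction.toPermHom G (Pt E)).ker.Normal).eq_bot_or_eq_top with hk | hk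
  · rwa [hk, mem_bot] at hg
  · exfalso
    have hN : normalizer (E : Set G) = ⊤ := top_le_iff.mp fun x _ => by
      refine smul_base_eq_iff.mp ?_
      have hx : x ∈ (MulAction.toPermHom G (Pt E)).ker := hk ▸ mem_top x
      rw [MonoidHom.mem_ker] at hx
      exact Equiv.congr_fun hx (base E)
    have := D.index
    rw [hN, index_top] at this
    omega

/-- The part of `E` fixing a point. -/
def fixE (E : Subgroup G) (p : Pt E) : Subgroup G := E ⊓ MulAction.stabilizer G p

theorem fixE_le (p : Pt E) : fixE E p ≤ E := inf_le_left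

theorem mem_fixE {x : G} {p : Pt E} : x ∈ fixE E p ↔ x ∈ E ∧ x • p = p := mem_inf

theorem mem_fixE_smul {m x : G} (hm : m ∈ normalizer (E : Set G)) {p : Pt E} :
    x ∈ fixE E (m • p) ↔ m⁻¹ * x * m ∈ fixE E p := by
  rw [mem_fixE, mem_fixE, mul_smul, mul_smul, inv_smul_eq_iff]
  refine and_congr_left' ?_
  rw [mem_normalizer_iff.mp (inv_mem hm) x, inv_inv]

theorem fixE_smul_E (D : PlaneData E) {e : G} (he : e ∈ E) (p : Pt E) :
    fixE E (e • p) = fixE E p := by
  ext x
  rw [mem_fixE_smul (le_normalizer he)]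
  constructor
  · intro h
    have hx : x ∈ E := by
      have := mul_mem (mul_mem he (mem_fixE.mp h).1) (inv_mem he)
      rwa [show e * (e⁻¹ * x * e) * e⁻¹ = x by group] at this
    rwa [mul_assoc, (D.comm x hx e he).eq, inv_mul_cancel_left] at h
  · intro h
    rwa [mul_assoc, (D.comm x (mem_fixE.mp h).1 e he).eq, inv_mul_cancel_left]

theorem card_fixE_cases (D : PlaneData E) (p : Pt E) :
    Nat.card (fixE E p) = 1 ∨ Nat.card (fixE E p) = 3 ∨ Nat.card (fixE E p) = 9 := by
  have h := card_dvd_of_le (fixE_le p)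
  rw [D.card, show (9 : ℕ) = 3 ^ 2 from rfl] at h
  obtain ⟨k, hk, h'⟩ := (Nat.dvd_prime_pow Nat.prime_three).mp h
  rw [h']
  interval_cases k <;> simp

/-- The orbit of a point under `E`. -/
theorem card_orbitE (D : PlaneData E) (p : Pt E) :
    (MulAction.orbit E p).ncard * Nat.card (fixE E p) = 9 := by
  rw [← MulAction.index_stabilizer, ← D.card, mul_comm]
  have e : MulAction.stabilizer E p = (fixE E p).subgroupOf E := by
    ext x
    rw [MulAction.mem_stabilizer_iff, mem_subgroupOf, mem_fixE]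
    exact ⟨fun h => ⟨x.2, h⟩, fun h => h.2⟩
  rw [e, ← Nat.card_congr (subgroupOfEquivOfLe (fixE_le p)).toEquiv]
  exact card_mul_index _

theorem orbitE_ne_base {p : Pt E} (hp : p ≠ base E) {q : Pt E} (hq : q ∈ MulAction.orbit E p) :
    q ≠ base E := by
  obtain ⟨e, rfl⟩ := hq
  intro h
  refine hp ?_
  have h2 : (e : G) • base E = base E := smul_base_eq_iff.mpr (le_normalizer e.2)
  have h' : (e : G) • p = (e : G) • base E := by rw [h2]; exact h
  exact MulAction.injective (e : G) h'

theorem fixE_orbit (D : PlaneData E) {p q : Pt E} (hq : q ∈ MulAction.orbit E p) :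
    fixE E q = fixE E p := by
  obtain ⟨e, rfl⟩ := hq
  exact fixE_smul_E D e.2 p

/-- A point other than the base one fixed by `E` gives a line of `E`. -/
theorem card_inter_conj (hcard : Nat.card G = 5616) (D : PlaneData E) {g : G} (hg : g ∉ normalizer (E : Set G))
    (hfix : fixE E (g • base E) = E) :
    Nat.card (E ⊓ E.map (MulAut.conj g).toMonoidHom : Subgroup G) = 3 := by
  haveI : Fact (Nat.Prime 3) := ⟨Nat.prime_three⟩
  set E' : Subgroup G := E.map (MulAut.conj g).toMonoidHom with hE'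
  have hc' : Nat.card E' = 9 := by
    rw [hE', ← Nat.card_congr (E.equivMapOfInjective _ (MulAut.conj g).injective).toEquiv, D.card]
  have hle : E ≤ normalizer (E' : Set G) := by
    intro x hx
    have hx' : x • (g • base E) = g • base E := (mem_fixE.mp (hfix.symm ▸ hx : x ∈ fixE E _)).2
    have hm : g⁻¹ * x * g ∈ normalizer (E : Set G) := smul_base_eq_iff.mp (by
      rw [mul_smul, mul_smul, hx', inv_smul_smul])
    refine mem_normalizer_fintype ?_
    rintro _ ⟨y, hy, rfl⟩
    refine ⟨g⁻¹ * x * g * y * (g⁻¹ * x * g)⁻¹, (mem_normalizer_iff.mp hm y).mp hy, ?_⟩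
    show g * (g⁻¹ * x * g * y * (g⁻¹ * x * g)⁻¹) * g⁻¹ = x * (g * y * g⁻¹) * x⁻¹
    group
  have h9 : Nat.card E = 3 ^ 2 := by rw [D.card]; rfl
  have hp : IsPGroup 3 (E ⊔ E' : Subgroup G) :=
    IsPGroup.to_sup_of_normal_right' (IsPGroup.of_card h9)
      (IsPGroup.of_card (p := 3) (n := 2) (by rw [hc']; rfl)) hle
  obtain ⟨k, hk⟩ := IsPGroup.iff_card.mp hp
  obtain ⟨j, hj, hj'⟩ := (Nat.dvd_prime_pow Nat.prime_three).mp
    (h9 ▸ card_dvd_of_le (inf_le_left : E ⊓ E' ≤ E))
  have hne1 : j ≠ 0 := by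
    rintro rfl
    have hbot : E ⊓ E' = ⊥ := Subgroup.card_eq_one.mp (by rw [hj', pow_zero])
    let f : E × E' → (E ⊔ E' : Subgroup G) := fun p =>
      ⟨p.1 * p.2, mul_mem (mem_sup_left p.1.2) (mem_sup_right p.2.2)⟩
    have hf : Function.Injective f := by
      rintro ⟨a, b⟩ ⟨c, d⟩ h
      have h' : (a : G) * b = c * d := congrArg Subtype.val h
      have h2 : (c : G)⁻¹ * a = d * (b : G)⁻¹ := by
        calc (c : G)⁻¹ * a = (c : G)⁻¹ * ((a : G) * b) * (b : G)⁻¹ := by group
          _ = _ := by rw [h']; group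
      have h3 : (c : G)⁻¹ * a ∈ E ⊓ E' :=
        mem_inf.mpr ⟨mul_mem (inv_mem c.2) a.2, h2 ▸ mul_mem d.2 (inv_mem b.2)⟩
      rw [hbot, mem_bot] at h3
      have hac : (a : G) = c := (inv_mul_eq_one.mp h3).symm
      rw [hac] at h'
      exact Prod.ext (Subtype.ext hac) (Subtype.ext (mul_left_cancel h'))
    have h81 := Nat.card_le_card_of_injective f hf
    rw [Nat.card_prod, D.card, hc', hk] at h81
    have hdvd : 3 ^ k ∣ Nat.card G := hk ▸ Subgroup.card_subgroup_dvd_card (E ⊔ E')
    have h4 : 4 ≤ k := by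
      by_contra h
      have := Nat.pow_le_pow_right (show 1 ≤ 3 by norm_num) (show k ≤ 3 by omega)
      omega
    have h81' : 3 ^ 4 ∣ 5616 := hcard ▸ (pow_dvd_pow 3 h4).trans hdvd
    revert h81'; decide
  have hne2 : j ≠ 2 := by
    rintro rfl
    refine hg ?_
    have h1 : E ⊓ E' = E := eq_of_le_of_card_ge inf_le_left (by rw [hj', D.card]; norm_num)
    have h2 : E = E' := eq_of_le_of_card_ge (inf_eq_left.mp h1) (by rw [hc', D.card])
    refine mem_normalizer_fintype fun y hy => ?_
    rw [SetLike.mem_coe, h2]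
    exact ⟨y, hy, rfl⟩
  rw [hj', show j = 1 by omega, pow_one]

/-- The points other than the base one whose part of `E` is generated by `y`. -/
def pts (E : Subgroup G) (y : G) : Set (Pt E) := {p | p ≠ base E ∧ fixE E p = zpowers y}

theorem smul_mem_pts {m y : G} (hm : m ∈ normalizer (E : Set G)) {p : Pt E} (hp : p ∈ pts E y) :
    m • p ∈ pts E (m * y * m⁻¹) := by
  refine ⟨fun h => hp.1 ?_, ?_⟩
  · exact MulAction.injective m (h.trans (smul_base_eq_iff.mpr hm).symm)
  · ext x
    rw [mem_fixE_smul hm, hp.2]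
    constructor
    · intro h
      obtain ⟨k, hk⟩ := mem_zpowers_iff.mp h
      exact mem_zpowers_iff.mpr ⟨k, by rw [conj_zpow, hk]; group⟩
    · intro h
      obtain ⟨k, hk⟩ := mem_zpowers_iff.mp h
      exact mem_zpowers_iff.mpr ⟨k, by rw [← hk, conj_zpow]; group⟩

theorem ncard_ne_base (D : PlaneData E) : ({p : Pt E | p ≠ base E}).ncard = 12 := by
  have h : ({p : Pt E | p ≠ base E}) = ({base E} : Set (Pt E))ᶜ := by ext; simp
  rw [h, Set.ncard_compl, card_pt D, Set.ncard_singleton]

/-- Some point has a part of order three in `E`. -/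
theorem exists_three (hcard : Nat.card G = 5616) (D : PlaneData E) :
    ∃ p : Pt E, p ≠ base E ∧ Nat.card (fixE E p) = 3 := by
  by_contra hcon
  push Not at hcon
  have hcases : ∀ p, p ≠ base E → fixE E p = ⊥ ∨ fixE E p = E := fun p hp => by
    rcases card_fixE_cases D p with h | h | h
    · exact Or.inl (card_eq_one.mp h)
    · exact absurd h (hcon p hp)
    · exact Or.inr (eq_of_le_of_card_ge (fixE_le p) (by rw [h, D.card]))
  have horb : ∀ p, fixE E p = ⊥ → (MulAction.orbit E p).ncard = 9 := fun p hp => by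
    have := card_orbitE D p
    rwa [hp, card_bot, mul_one] at this
  obtain ⟨v, hv, hvinj⟩ := exists_lines D
  -- some point is moved by all of `E`
  obtain ⟨p, hp, hpb⟩ : ∃ p, p ≠ base E ∧ fixE E p = ⊥ := by
    by_contra h
    push Not at h
    refine (hv 0).2 (faithful D fun p => ?_)
    by_cases hp : p = base E
    · rw [hp]; exact smul_base_eq_iff.mpr (le_normalizer (hv 0).1)
    · exact (mem_fixE.mp (((hcases p hp).resolve_left (h p hp)).symm ▸ (hv 0).1 :
        v 0 ∈ fixE E p)).2
  set O := MulAction.orbit E p with hO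
  have hOsub : O ⊆ {q | q ≠ base E} := fun q hq => orbitE_ne_base hp hq
  have hO9 : O.ncard = 9 := horb p hpb
  by_cases hF : ∃ q, q ≠ base E ∧ fixE E q = E
  · obtain ⟨q, hq, hqE⟩ := hF
    obtain ⟨g, rfl⟩ : ∃ g : G, g • base E = q := MulAction.exists_smul_eq G _ _
    have hg : g ∉ normalizer (E : Set G) := fun h => hq (smul_base_eq_iff.mpr h)
    have h3 := card_inter_conj hcard D hg hqE
    obtain ⟨x, hx⟩ := exists_prime_orderOf_dvd_card' (hp := ⟨Nat.prime_three⟩) 3 (dvd_of_eq h3.symm)
    have hxE : (x : G) ∈ E := (mem_inf.mp x.2).1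
    have hx1 : (x : G) ≠ 1 := fun h => by
      rw [← orderOf_submonoid, h, orderOf_one] at hx; omega
    choose m hm hmx using fun i => D.trans x hxE hx1 (v i) (hv i).1 (hv i).2
    have hq' : ∀ i, (m i * g) • base E ≠ base E ∧ fixE E ((m i * g) • base E) = E := fun i => by
      rw [mul_smul]
      refine ⟨fun h => hq (MulAction.injective (m i) (h.trans (smul_base_eq_iff.mpr (hm i)).symm)), ?_⟩
      refine le_antisymm (fixE_le _) fun y hy => (mem_fixE_smul (hm i)).mpr ?_
      rw [hqE]
      have := (mem_normalizer_iff.mp (inv_mem (hm i)) y).mp hy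
      rwa [inv_inv] at this
    have hL : ∀ i, E ⊓ E.map (MulAut.conj (m i * g)).toMonoidHom = zpowers (v i) := fun i => by
      refine (eq_of_le_of_card_ge (zpowers_le.mpr (mem_inf.mpr ⟨(hv i).1, ?_⟩)) ?_).symm
      · obtain ⟨y, hy, hy'⟩ := (mem_inf.mp x.2).2
        refine ⟨y, hy, ?_⟩
        rw [← hmx i, ← hy']
        show m i * g * y * (m i * g)⁻¹ = m i * (g * y * g⁻¹) * (m i)⁻¹
        group
      · rw [card_inter_conj hcard D (fun h => (hq' i).1 (smul_base_eq_iff.mpr h)) (hq' i).2,
          Nat.card_zpowers, orderOf_eq_three (D.exponent _ (hv i).1) (hv i).2]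
    have hinj : Function.Injective fun i => (m i * g) • base E := by
      intro i j hij
      refine hvinj i j ?_
      have hn : (m j * g)⁻¹ * (m i * g) ∈ normalizer (E : Set G) := smul_base_eq_iff.mp (by
        rw [mul_smul, show (m i * g) • base E = (m j * g) • base E from hij, inv_smul_smul])
      have e : E.map (MulAut.conj (m i * g)).toMonoidHom ≤ E.map (MulAut.conj (m j * g)).toMonoidHom := by
        rintro _ ⟨y, hy, rfl⟩
        refine ⟨_, (mem_normalizer_iff.mp hn y).mp hy, ?_⟩
        show m j * g * ((m j * g)⁻¹ * (m i * g) * y * ((m j * g)⁻¹ * (m i * g))⁻¹) * (m j * g)⁻¹ =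
          m i * g * y * (m i * g)⁻¹
        group
      rw [← hL j]
      exact mem_inf.mpr ⟨(hv i).1, e (mem_inf.mp ((hL i).symm ▸ mem_zpowers (v i) :
        v i ∈ E ⊓ E.map (MulAut.conj (m i * g)).toMonoidHom)).2⟩
    have hF4 : 4 ≤ ({q : Pt E | q ≠ base E} \ O).ncard := by
      calc 4 = (Set.range fun i => (m i * g) • base E).ncard := by
            rw [Set.ncard_range_of_injective hinj, Nat.card_fin]
        _ ≤ _ := Set.ncard_le_ncard (by
            rintro _ ⟨i, rfl⟩
            refine ⟨(hq' i).1, fun h => ?_⟩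
            have := fixE_orbit D h
            rw [(hq' i).2, hpb] at this
            have hc := D.card
            rw [this, card_bot] at hc
            omega)
    rw [Set.ncard_diff hOsub, ncard_ne_base D, hO9] at hF4
    omega
  · push Not at hF
    have hd : ({q : Pt E | q ≠ base E} \ O).ncard = 3 := by
      rw [Set.ncard_diff hOsub, ncard_ne_base D, hO9]
    obtain ⟨q, hq, hqO⟩ : ({q : Pt E | q ≠ base E} \ O).Nonempty :=
      Set.nonempty_of_ncard_ne_zero (by omega)
    have hqb : fixE E q = ⊥ := (hcases q hq).resolve_right (hF q hq)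
    have hsub : MulAction.orbit E q ⊆ {q : Pt E | q ≠ base E} \ O := by
      intro r hr
      refine ⟨orbitE_ne_base hq hr, fun h => hqO ?_⟩
      rw [hO, ← MulAction.orbit_eq_iff.mpr h, MulAction.orbit_eq_iff.mpr hr]
      exact MulAction.mem_orbit_self q
    have := Set.ncard_le_ncard hsub
    rw [horb q hqb, hd] at this
    omega

theorem ncard_orbit_three (D : PlaneData E) {p : Pt E} (hp : Nat.card (fixE E p) = 3) :
    (MulAction.orbit E p).ncard = 3 := by
  have := card_orbitE D p
  rw [hp] at this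
  omega

/-- Every point other than the base one determines a line, and every line three points. -/
theorem pts_facts (hcard : Nat.card G = 5616) (D : PlaneData E) :
    (∀ p, p ≠ base E → ∃ y ∈ E, y ≠ 1 ∧ p ∈ pts E y) ∧
      ∀ y ∈ E, y ≠ 1 → (pts E y).ncard = 3 := by
  classical
  obtain ⟨p0, hp0, hc0⟩ := exists_three hcard D
  obtain ⟨x, hx⟩ := exists_prime_orderOf_dvd_card' (hp := ⟨Nat.prime_three⟩) 3 (dvd_of_eq hc0.symm)
  have hxE : (x : G) ∈ E := fixE_le p0 x.2
  have hx1 : (x : G) ≠ 1 := fun h => by rw [← orderOf_submonoid, h, orderOf_one] at hx; omega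
  have hx0 : fixE E p0 = zpowers (x : G) := (eq_of_le_of_card_ge (zpowers_le.mpr x.2)
    (by rw [hc0, Nat.card_zpowers, orderOf_submonoid, hx])).symm
  have hge : ∀ y ∈ E, y ≠ 1 → 3 ≤ (pts E y).ncard := by
    intro y hy hy1
    obtain ⟨m, hm, hmy⟩ := D.trans x hxE hx1 y hy hy1
    have hq : m • p0 ∈ pts E y := hmy ▸ smul_mem_pts hm ⟨hp0, hx0⟩
    rw [← ncard_orbit_three D (p := m • p0) (by
      rw [hq.2, Nat.card_zpowers, orderOf_eq_three (D.exponent y hy) hy1])]
    exact Set.ncard_le_ncard fun r hr =>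
      ⟨orbitE_ne_base hq.1 hr, (fixE_orbit D hr).trans hq.2⟩
  obtain ⟨v, hv, hvinj⟩ := exists_lines D
  let f : (Σ i, pts E (v i)) → {p : Pt E // p ≠ base E} := fun q => ⟨q.2.1, q.2.2.1⟩
  have hf : Function.Injective f := by
    rintro ⟨i, a, ha⟩ ⟨j, b, hb⟩ h
    have hab : a = b := congrArg Subtype.val h
    subst hab
    obtain rfl : i = j := hvinj i j (by
      rw [← hb.2, ha.2]; exact mem_zpowers (v i))
    rfl
  have h12 : Nat.card {p : Pt E // p ≠ base E} = 12 := by
    rw [← ncard_ne_base D, ← Nat.card_coe_set_eq]; rfl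
  have hle := Nat.card_le_card_of_injective f hf
  have hsum : Nat.card (Σ i, pts E (v i)) = ∑ i, (pts E (v i)).ncard := by
    rw [Nat.card_sigma]; rfl
  rw [hsum, h12, Fin.sum_univ_four] at hle
  have hvc : ∀ i, (pts E (v i)).ncard = 3 := fun i => by
    have h0 := hge _ (hv 0).1 (hv 0).2
    have h1 := hge _ (hv 1).1 (hv 1).2
    have h2 := hge _ (hv 2).1 (hv 2).2
    have h3 := hge _ (hv 3).1 (hv 3).2
    fin_cases i <;> simp <;> omega
  have hbij : Function.Bijective f := hf.bijective_of_nat_card_le (by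
    rw [hsum, h12, Fin.sum_univ_four, hvc, hvc, hvc, hvc])
  refine ⟨fun p hp => ?_, fun y hy hy1 => ?_⟩
  · obtain ⟨⟨i, q, hq⟩, hqp⟩ := hbij.2 ⟨p, hp⟩
    obtain rfl : q = p := congrArg Subtype.val hqp
    exact ⟨v i, (hv i).1, (hv i).2, hq⟩
  · obtain ⟨m, hm, hmy⟩ := D.trans y hy hy1 (v 0) (hv 0).1 (hv 0).2
    refine le_antisymm ?_ (hge y hy hy1)
    rw [← hvc 0, ← hmy]
    exact Set.ncard_le_ncard_of_injOn (fun p => m • p) (fun p hp => smul_mem_pts hm hp)
      fun a _ b _ h => MulAction.injective m h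

/-- The fixed points of an element. -/
noncomputable def fixPts (E : Subgroup G) (x : G) : Finset (Pt E) :=
  (Set.toFinite {p : Pt E | x • p = p}).toFinset

theorem mem_fixPts {x : G} {p : Pt E} : p ∈ fixPts E x ↔ x • p = p := by
  rw [fixPts, Set.Finite.mem_toFinset]; rfl

theorem fixPts_eq (hcard : Nat.card G = 5616) (D : PlaneData E) {x : G} (hx : x ∈ E) (hx1 : x ≠ 1) :
    (fixPts E x : Set (Pt E)) = insert (base E) (pts E x) := by
  ext p
  rw [Finset.mem_coe, mem_fixPts, Set.mem_insert_iff]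
  constructor
  · intro h
    by_cases hp : p = base E
    · exact Or.inl hp
    · obtain ⟨y, hy, hy1, hpy⟩ := (pts_facts hcard D).1 p hp
      have hxy : x ∈ zpowers y := hpy.2 ▸ mem_fixE.mpr ⟨hx, h⟩
      exact Or.inr ⟨hp, hpy.2.trans (zpowers_eq_of_mem (D.exponent y hy) hx1 hxy).symm⟩
  · rintro (rfl | h)
    · exact smul_base_eq_iff.mpr (le_normalizer hx)
    · exact (mem_fixE.mp (h.2.symm ▸ mem_zpowers x : x ∈ fixE E p)).2

theorem card_fixPts (hcard : Nat.card G = 5616) (D : PlaneData E) {x : G} (hx : x ∈ E)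
    (hx1 : x ≠ 1) : (fixPts E x).card = 4 := by
  rw [← Set.ncard_coe_finset, fixPts_eq hcard D hx hx1,
    Set.ncard_insert_of_notMem (fun h => h.1 rfl), (pts_facts hcard D).2 x hx hx1]

/-- The normaliser is transitive away from the base point. -/
theorem exists_mem_smul_eq (hcard : Nat.card G = 5616) (D : PlaneData E) {p q : Pt E}
    (hp : p ≠ base E) (hq : q ≠ base E) : ∃ m ∈ normalizer (E : Set G), m • p = q := by
  obtain ⟨x, hx, hx1, hpx⟩ := (pts_facts hcard D).1 p hp
  obtain ⟨y, hy, hy1, hqy⟩ := (pts_facts hcard D).1 q hq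
  obtain ⟨m, hm, hmy⟩ := D.trans x hx hx1 y hy hy1
  have hmp : m • p ∈ pts E y := hmy ▸ smul_mem_pts hm hpx
  have horb : MulAction.orbit E q = pts E y := by
    refine Set.eq_of_subset_of_ncard_le
      (fun r hr => ⟨orbitE_ne_base hq hr, (fixE_orbit D hr).trans hqy.2⟩) ?_
    rw [(pts_facts hcard D).2 y hy hy1, ncard_orbit_three D (by
      rw [hqy.2, Nat.card_zpowers, orderOf_eq_three (D.exponent y hy) hy1])]
  obtain ⟨e, he⟩ := (horb.symm ▸ hmp : m • p ∈ MulAction.orbit E q)
  refine ⟨(e : G)⁻¹ * m, mul_mem (inv_mem (le_normalizer e.2)) hm, ?_⟩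
  rw [mul_smul, ← he]
  exact inv_smul_smul (e : G) q

/-- A conjugate of an element of `E` fixing two points of a line has the same fixed points. -/
theorem fixPts_unique (hcard : Nat.card G = 5616) (D : PlaneData E) {x0 x : G} (hx0 : x0 ∈ E)
    (hx01 : x0 ≠ 1) {q : Pt E} (hq : q ∈ pts E x0) (hx3 : x ^ 3 = 1) (hx1 : x ≠ 1)
    (hxc : (fixPts E x).card = 4) (hxb : x • base E = base E) (hxq : x • q = q) :
    fixPts E x = fixPts E x0 := by
  have hxN : x ∈ normalizer (E : Set G) := smul_base_eq_iff.mp hxb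
  by_cases hxE : x ∈ E
  · have hx' : x ∈ zpowers x0 := hq.2 ▸ mem_fixE.mpr ⟨hxE, hxq⟩
    apply Finset.coe_injective
    rw [fixPts_eq hcard D hxE hx1, fixPts_eq hcard D hx0 hx01, pts, pts,
      zpowers_eq_of_mem (D.exponent x0 hx0) hx1 hx']
  · refine Finset.eq_of_subset_of_card_le ?_ (by rw [hxc, card_fixPts hcard D hx0 hx01])
    intro r hr
    rw [mem_fixPts] at hr
    rw [← Finset.mem_coe, fixPts_eq hcard D hx0 hx01, Set.mem_insert_iff]
    by_cases hrb : r = base E
    · exact Or.inl hrb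
    refine Or.inr ⟨hrb, ?_⟩
    obtain ⟨y, hy, hy1, hry⟩ := (pts_facts hcard D).1 r hrb
    have hcomm : ∀ z ∈ E, z ≠ 1 → ∀ s, x • s = s → fixE E s = zpowers z → Commute x z := by
      intro z hz hz1 s hs hsz
      refine commute_of_normalises hx3 (D.exponent z hz) hz1 ?_
      rw [← hsz]
      have h : x⁻¹ * (x * z * x⁻¹) * x ∈ fixE E s := by
        rw [show x⁻¹ * (x * z * x⁻¹) * x = z by group, hsz]; exact mem_zpowers z
      have := (mem_fixE_smul hxN).mpr h
      rwa [hs] at this
    have c1 := hcomm x0 hx0 hx01 q hxq hq.2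
    have c2 := hcomm y hy hy1 r hr hry.2
    rw [hry.2]
    by_contra hne
    refine hxE (D.selfCent x fun z hz => ?_)
    have hyx : ∀ i : ℕ, y ≠ x0 ^ i := fun i hi => hne
      (zpowers_eq_of_mem (D.exponent x0 hx0) hy1 (hi ▸ pow_mem (mem_zpowers x0) i))
    have hzy : Commute x0 y := D.comm x0 hx0 y hy
    have hE : pair3 x0 y (D.exponent x0 hx0) (D.exponent y hy) hzy = E :=
      eq_of_le_of_card_ge (pair3_le _ _ _ hx0 hy) (by rw [D.card, card_pair3 _ _ _ hyx hx01])
    obtain ⟨i, j, rfl⟩ := (hE.symm ▸ hz : z ∈ pair3 x0 y (D.exponent x0 hx0) (D.exponent y hy) hzy)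
    exact ((c1.pow_right i).mul_right (c2.pow_right j)).eq

/-- The group is the automorphism group of the plane of order three. -/
theorem nonempty_mulEquiv_model (hcard : Nat.card G = 5616) (D : PlaneData E) :
    Nonempty (G ≃* Cfsg.setSystemAut (decSet 13 model13)) := by
  classical
  haveI : Fintype (Pt E) := Fintype.ofFinite _
  obtain ⟨v, hv, -⟩ := exists_lines D
  obtain ⟨hx0, hx01⟩ := hv 0
  set x0 := v 0
  have h03 := D.exponent x0 hx0
  let act : G → Finset (Pt E) → Finset (Pt E) := fun g s => s.image (fun p => g • p)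
  have act_eq : ∀ g, act g (fixPts E x0) = fixPts E (g * x0 * g⁻¹) := fun g => by
    ext p
    simp only [act, Finset.mem_image, mem_fixPts]
    constructor
    · rintro ⟨r, hr, rfl⟩
      rw [mul_smul, mul_smul, inv_smul_smul, hr]
    · intro h
      refine ⟨g⁻¹ • p, ?_, smul_inv_smul g p⟩
      rw [mul_smul, mul_smul] at h
      exact eq_inv_smul_iff.mpr h
  have act_act : ∀ g h s, act g (act h s) = act (g * h) s := fun g h s => by
    simp only [act, Finset.image_image]
    refine Finset.image_congr fun p _ => ?_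
    exact (mul_smul g h p).symm
  have hbmem : base E ∈ fixPts E x0 := mem_fixPts.mpr (smul_base_eq_iff.mpr (le_normalizer hx0))
  obtain ⟨q0, hq0⟩ : (pts E x0).Nonempty :=
    Set.nonempty_of_ncard_ne_zero (by rw [(pts_facts hcard D).2 x0 hx0 hx01]; norm_num)
  have hq0mem : q0 ∈ fixPts E x0 := by
    rw [← Finset.mem_coe, fixPts_eq hcard D hx0 hx01]; exact Or.inr hq0
  have htwo : ∀ p q : Pt E, p ≠ q → ∃ g : G, g • base E = p ∧ g • q0 = q := by
    intro p q hpq
    obtain ⟨g, hg⟩ := MulAction.exists_smul_eq G (base E) p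
    have hq' : g⁻¹ • q ≠ base E := fun h => hpq (by rw [← hg, ← h, smul_inv_smul])
    obtain ⟨m, hm, hmq⟩ := exists_mem_smul_eq hcard D hq0.1 hq'
    exact ⟨g * m, by rw [mul_smul, smul_base_eq_iff.mpr hm, hg],
      by rw [mul_smul, hmq, smul_inv_smul]⟩
  let B : Set (Finset (Pt E)) := Set.range fun g => act g (fixPts E x0)
  have hsys : Cfsg.IsSteinerSystem 2 4 B := by
    refine ⟨?_, fun s hs => ?_⟩
    · rintro _ ⟨g, rfl⟩
      show (Finset.image _ _).card = 4
      rw [Finset.card_image_of_injective _ (MulAction.injective g), card_fixPts hcard D hx0 hx01]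
    obtain ⟨p, q, hpq, rfl⟩ := Finset.card_eq_two.mp hs
    obtain ⟨g, hgp, hgq⟩ := htwo p q hpq
    refine ⟨act g (fixPts E x0), ⟨⟨g, rfl⟩, ?_⟩, ?_⟩
    · rw [Finset.insert_subset_iff, Finset.singleton_subset_iff]
      exact ⟨Finset.mem_image.mpr ⟨_, hbmem, hgp⟩, Finset.mem_image.mpr ⟨_, hq0mem, hgq⟩⟩
    · rintro _ ⟨⟨h, rfl⟩, hsub⟩
      rw [Finset.insert_subset_iff, Finset.singleton_subset_iff] at hsub
      set k := g⁻¹ * h with hk
      have hh : h = g * k := by rw [hk, mul_inv_cancel_left]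
      have hb : base E ∈ act k (fixPts E x0) := by
        obtain ⟨r, hr, hr'⟩ := Finset.mem_image.mp hsub.1
        exact Finset.mem_image.mpr ⟨r, hr, by rw [hk, mul_smul, hr', ← hgp, inv_smul_smul]⟩
      have hq : q0 ∈ act k (fixPts E x0) := by
        obtain ⟨r, hr, hr'⟩ := Finset.mem_image.mp hsub.2
        exact Finset.mem_image.mpr ⟨r, hr, by rw [hk, mul_smul, hr', ← hgq, inv_smul_smul]⟩
      have hcard' : (act k (fixPts E x0)).card = 4 := by
        rw [Finset.card_image_of_injective _ (MulAction.injective k), card_fixPts hcard D hx0 hx01]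
      rw [act_eq, mem_fixPts] at hb hq
      rw [act_eq] at hcard'
      have hkey := fixPts_unique hcard D hx0 hx01 hq0
        (by rw [← MulAut.conj_apply, ← map_pow, h03, map_one])
        (fun e => hx01 (conj_eq_one_iff.mp e)) hcard' hb hq
      show act h (fixPts E x0) = act g (fixPts E x0)
      rw [hh, ← act_act, act_eq k, hkey]
  have hmem : ∀ g : G, MulAction.toPermHom G (Pt E) g ∈ Cfsg.setSystemAut B := by
    intro g
    rw [mem_setSystemAut]
    show (fun b => act g b) '' B = B
    refine Set.Subset.antisymm ?_ ?_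
    · rintro _ ⟨_, ⟨h, rfl⟩, rfl⟩
      exact ⟨g * h, (act_act g h _).symm⟩
    · rintro _ ⟨h, rfl⟩
      exact ⟨_, ⟨g⁻¹ * h, rfl⟩, (act_act g (g⁻¹ * h) _).trans (by rw [mul_inv_cancel_left])⟩
  let ψ : G →* Cfsg.setSystemAut B := (MulAction.toPermHom G (Pt E)).codRestrict _ hmem
  have hψ : Function.Injective ψ := by
    refine (injective_iff_map_eq_one ψ).mpr fun g hg => faithful D fun p => ?_
    exact Equiv.congr_fun (congrArg Subtype.val hg : MulAction.toPermHom G (Pt E) g = 1) p
  obtain ⟨f⟩ := aut_equiv_model (by rw [← Nat.card_eq_fintype_card, card_pt D]) hsys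
  have hbij : Function.Bijective ψ := hψ.bijective_of_nat_card_le (by
    rw [hcard, Nat.card_congr f.toEquiv, card_aut_model])
  exact ⟨(MulEquiv.ofBijective ψ hbij).trans f⟩

end Cfsg.Agent.L33Rec
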