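import Cfsg.Agent.L33Rec.EGroup

/-!
# The four subgroups of order three in `E`
-/

set_option autoImplicit false
set_option linter.unusedSectionVars false

namespace Cfsg.Agent.L33Rec

open Subgroup

variable {G : Type*} [Group G] [Finite G]

theorem orderOf_eq_three {x : G} (h : x ^ 3 = 1) (h1 : x ≠ 1) : orderOf x = 3 := by
  haveI : Fact (Nat.Prime 3) := ⟨Nat.prime_three⟩
  exact orderOf_eq_prime h h1

theorem exists_pow_of_mem_zpowers {x y : G} (hx : x ^ 3 = 1) (hy : y ∈ zpowers x) :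
    ∃ k : ℕ, k < 3 ∧ y = x ^ k := by
  obtain ⟨k, hk⟩ := (Submonoid.mem_powers_iff _ _).mp (mem_powers_iff_mem_zpowers.mpr hy)
  exact ⟨k % 3, Nat.mod_lt _ (by norm_num), by rw [← hk, pow_mod_three hx]⟩

theorem zpowers_eq_of_mem {x y : G} (hx : x ^ 3 = 1) (hy1 : y ≠ 1) (hy : y ∈ zpowers x) :
    zpowers y = zpowers x := by
  obtain ⟨k, hk, rfl⟩ := exists_pow_of_mem_zpowers hx hy
  refine le_antisymm (zpowers_le.mpr hy) (zpowers_le.mpr ?_)
  have hk0 : k ≠ 0 := fun h => hy1 (by rw [h, pow_zero])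
  refine ⟨(k : ℤ), ?_⟩
  show (x ^ k) ^ (k : ℤ) = x
  rw [zpow_natCast, ← pow_mul, pow_mod_three hx]
  interval_cases k <;> first | omega | simp

/-- An element of order three normalising a subgroup of order three centralises it. -/
theorem commute_of_normalises {x y : G} (hx : x ^ 3 = 1) (hy : y ^ 3 = 1) (hy1 : y ≠ 1)
    (h : x * y * x⁻¹ ∈ zpowers y) : Commute x y := by
  obtain ⟨k, hk, hxy⟩ := exists_pow_of_mem_zpowers hy h
  interval_cases k
  · refine absurd ?_ hy1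
    rw [pow_zero, conj_eq_iff, one_mul] at hxy
    exact mul_eq_left.mp hxy
  · rw [pow_one, conj_eq_iff] at hxy
    exact hxy
  · exfalso
    refine hy1 ?_
    have h3 : MulAut.conj x (MulAut.conj x (MulAut.conj x y)) = y := by
      simp only [MulAut.conj_apply]
      calc x * (x * (x * y * x⁻¹) * x⁻¹) * x⁻¹ = x ^ 3 * y * (x ^ 3)⁻¹ := by
            simp only [pow_succ, pow_zero, one_mul]; group
        _ = y := by rw [hx, one_mul, inv_one, mul_one]
    rw [MulAut.conj_apply x y, hxy, map_pow, MulAut.conj_apply x y, hxy, ← pow_mul, map_pow,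
      MulAut.conj_apply x y, hxy, ← pow_mul, pow_mod_three hy,
      show 2 * (2 * 2) % 3 = 2 from rfl, pow_two, mul_eq_left] at h3
    exact h3

/-- Representatives of the four subgroups of order three. -/
theorem exists_lines {E : Subgroup G} (D : PlaneData E) :
    ∃ v : Fin 4 → G, (∀ i, v i ∈ E ∧ v i ≠ 1) ∧ ∀ i j, v i ∈ zpowers (v j) → i = j := by
  obtain ⟨z, hzE, hz1⟩ : ∃ z ∈ E, z ≠ 1 := by
    by_contra h
    push Not at h
    have : E = ⊥ := (eq_bot_iff_forall E).mpr h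
    have hc := D.card
    rw [this, card_bot] at hc
    omega
  obtain ⟨w, hwE, hw⟩ : ∃ w ∈ E, w ∉ zpowers z := by
    by_contra h
    push Not at h
    have := card_dvd_of_le (show E ≤ zpowers z from h)
    rw [D.card, Nat.card_zpowers, orderOf_eq_three (D.exponent z hzE) hz1] at this
    norm_num at this
  have hz := D.exponent z hzE
  have hw3 := D.exponent w hwE
  have hzw : Commute z w := D.comm z hzE w hwE
  have hw0 : ∀ i : ℕ, w ≠ z ^ i := fun i hi => hw (hi ▸ pow_mem (mem_zpowers z) i)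
  let e : Fin 4 → ℕ × ℕ := ![(1, 0), (0, 1), (1, 1), (1, 2)]
  have he : ∀ i, (e i).1 < 3 ∧ (e i).2 < 3 ∧ ¬ ((e i).1 = 0 ∧ (e i).2 = 0) := by decide
  have hee : ∀ i j : Fin 4, ∀ k : Fin 3, (k : ℕ) * (e j).1 % 3 = (e i).1 →
      (k : ℕ) * (e j).2 % 3 = (e i).2 → i = j := by decide
  refine ⟨fun i => z ^ (e i).1 * w ^ (e i).2,
    fun i => ⟨mul_mem (pow_mem hzE _) (pow_mem hwE _), fun h => ?_⟩, fun i j h => ?_⟩
  · obtain ⟨h1, h2, h3⟩ := he i
    exact h3 (pow_mul_pow_inj hz hw3 hw0 hz1 h1 h2 (by norm_num) (by norm_num)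
      (k := 0) (l := 0) (by rw [pow_zero, pow_zero, one_mul]; exact h))
  · obtain ⟨k, hk, hk'⟩ := exists_pow_of_mem_zpowers
      (D.exponent _ (mul_mem (pow_mem hzE _) (pow_mem hwE _))) h
    simp only [(hzw.pow_pow _ _).mul_pow, ← pow_mul] at hk'
    rw [pow_mod_three hz ((e j).1 * k), pow_mod_three hw3 ((e j).2 * k)] at hk'
    obtain ⟨h1, h2⟩ := pow_mul_pow_inj hz hw3 hw0 hz1 (he i).1 (he i).2.1
      (Nat.mod_lt _ (by norm_num)) (Nat.mod_lt _ (by norm_num)) hk'
    exact hee i j ⟨k, hk⟩ (by rw [mul_comm, h1]) (by rw [mul_comm, h2])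

end Cfsg.Agent.L33Rec
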