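import Cfsg.Agent.L33Rec.Geometry
import Cfsg.Agent.Class49.PatternSL3
import Cfsg.Agent.Lib.LinearGroup.Simple
import Cfsg.Agent.Lib.Steiner.M11.Unique
import Cfsg.Agent.Lib.Golay.M12

/-!
# The recognition of `PSL(3,3)` and `M11` by an involution centraliser `GL(2,3)`
-/

set_option autoImplicit false

namespace Cfsg.Agent.L33Rec

open Subgroup Cfsg.Agent.GL23Inv

theorem center_SL_eq_bot : center (Matrix.SpecialLinearGroup (Fin 3) (ZMod 3)) = ⊥ := by
  refine (eq_bot_iff_forall _).mpr fun g hg => ?_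
  obtain ⟨r, hr, hg'⟩ := Matrix.SpecialLinearGroup.mem_center_iff.mp hg
  have : ∀ s : ZMod 3, s ^ 3 = 1 → s = 1 := by decide
  rw [this r (by simpa using hr), map_one] at hg'
  exact Subtype.ext hg'.symm

/-- `SL(3,3)` is `PSL(3,3)`. -/
noncomputable def slEquivPSL : Matrix.SpecialLinearGroup (Fin 3) (ZMod 3) ≃*
    Matrix.ProjectiveSpecialLinearGroup (Fin 3) (ZMod 3) :=
  (QuotientGroup.quotientBot (G := Matrix.SpecialLinearGroup (Fin 3) (ZMod 3))).symm.trans
    (QuotientGroup.quotientMulEquivOfEq center_SL_eq_bot.symm)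

theorem equiv_PSL_of_card {G : Type*} [Group G] [Finite G] [IsSimpleGroup G] (S : Setup G)
    (hcard : Nat.card G = 5616) :
    Nonempty (G ≃* Matrix.ProjectiveSpecialLinearGroup (Fin 3) (ZMod 3)) := by
  haveI : Fact (Nat.Prime 3) := ⟨Nat.prime_three⟩
  haveI : IsSimpleGroup (Matrix.ProjectiveSpecialLinearGroup (Fin 3) (ZMod 3)) :=
    LinearGroup.isSimpleGroup_PSL_of_three_le (by simp)
  haveI : IsSimpleGroup (Class49.Pattern.SL3.S3) := MulEquiv.isSimpleGroup slEquivPSL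
  obtain ⟨T, -⟩ := GL23Inv.exists_setup Class49.Pattern.SL3.dinv
    (orderOf_eq_prime (hp := ⟨Nat.prime_two⟩) (Subtype.ext (by decide +kernel))
      (fun h => absurd (congrArg Subtype.val h) (by decide +kernel)))
    Class49.Pattern.SL3.centralizerEquiv3.symm
  obtain ⟨E, D⟩ := S.exists_planeData hcard
  obtain ⟨E', D'⟩ := T.exists_planeData Class49.Pattern.SL3.card_S3
  obtain ⟨f⟩ := nonempty_mulEquiv_model hcard D
  obtain ⟨f'⟩ := nonempty_mulEquiv_model Class49.Pattern.SL3.card_S3 D'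
  exact ⟨(f.trans f'.symm).trans slEquivPSL⟩

theorem recognition {G : Type*} [Group G] [Finite G] (hO : Cfsg.pResidual 2 G = ⊤) (t : G)
    (ht : orderOf t = 2)
    (hC : Nonempty (↥(Subgroup.centralizer ({t} : Set G)) ≃* GL (Fin 2) (ZMod 3))) :
    (∃ (F : Type) (_ : Field F) (_ : Fintype F), Fintype.card F = 3 ∧
      Nonempty (G ≃* Matrix.ProjectiveSpecialLinearGroup (Fin 3) F)) ∨ Cfsg.Spor.IsoM11 G := by
  obtain ⟨ψ⟩ := hC
  obtain ⟨S, -⟩ := GL23Inv.exists_setup t ht ψ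
  haveI := S.isSimpleGroup (noIndexTwo_of_pResidual hO)
  haveI := Fintype.ofFinite G
  rcases S.main with h | h
  · haveI : Fact (Nat.Prime 3) := ⟨Nat.prime_three⟩
    exact Or.inl ⟨ZMod 3, inferInstance, inferInstance, ZMod.card 3, equiv_PSL_of_card S h⟩
  · exact Or.inr (Cfsg.Agent.Steiner.M11.nonempty_mulEquiv ⟨inferInstance, h⟩
      (⟨Cfsg.Agent.Golay.isSimpleGroup_M11, Cfsg.Agent.Golay.card_M11⟩ : Cfsg.IsM11 Spor.M11))

end Cfsg.Agent.L33Rec
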