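import Cfsg.Agent.L33Rec.Simple
import Cfsg.Agent.L33Rec.Basic

/-!
# An element of order three in `GL(2,3)`
-/

set_option autoImplicit false
set_option linter.unusedSectionVars false

namespace Cfsg.Agent.L33Rec

open Subgroup Cfsg.Agent.GL23Inv

/-- A transvection. -/
def C0 : X := ⟨!![1, 1; 0, 1], !![1, 2; 0, 1], by decide, by decide⟩

theorem C0_pow_three : C0 ^ 3 = 1 := by apply Units.ext; decide +kernel

theorem C0_ne_one : C0 ≠ 1 := fun h => by
  have := congrArg (fun g : X => (g : M2) 0 1) h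
  revert this; decide +kernel

theorem D_C0 : D * C0 = C0 ^ 2 * D := by apply Units.ext; decide +kernel

theorem N_C0 : GL23Inv.N * C0 = C0 * GL23Inv.N := by apply Units.ext; decide +kernel

theorem N_D : GL23Inv.N * D = D * GL23Inv.N := by apply Units.ext; decide +kernel

theorem D_ne_one : D ≠ 1 := fun h => by
  have := congrArg (fun g : X => (g : M2) 1 1) h
  revert this; decide +kernel

theorem D_ne_N : D ≠ GL23Inv.N := fun h => by
  have := congrArg (fun g : X => (g : M2) 0 0) h
  revert this; decide +kernel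

theorem E_C0_ne : (E : M2) * (C0 : M2) ≠ (C0 : M2) * (E : M2) := by decide +kernel

theorem mat_three_conj : ∀ M : M2, d2 M ≠ 0 → M * M * M = 1 → M ≠ 1 →
    ∃ p q r s : ZMod 3, d2 !![p, q; r, s] ≠ 0 ∧
      !![p, q; r, s] * M = (C0 : M2) * !![p, q; r, s] :=
  forall_matrix (by decide +kernel)

theorem mat_cent_C0 : ∀ M : M2, d2 M ≠ 0 → M * (C0 : M2) = (C0 : M2) * M →
    ∃ i : Fin 3, M = ((C0 ^ (i : ℕ) : X) : M2) ∨ M = ((GL23Inv.N * C0 ^ (i : ℕ) : X) : M2) :=
  forall_matrix (by decide +kernel)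

theorem mat_cent_D : ∀ M : M2, d2 M ≠ 0 → M * (D : M2) = (D : M2) * M →
    M = 1 ∨ M = (GL23Inv.N : M2) ∨ M = (D : M2) ∨ M = ((GL23Inv.N * D : X) : M2) :=
  forall_matrix (by decide +kernel)

/-- The normaliser of the subgroup generated by the transvection. -/
def NX : Subgroup X where
  carrier := {x | x * C0 = C0 * x ∨ x * C0 = C0 ^ 2 * x}
  one_mem' := Or.inl (by rw [one_mul, mul_one])
  mul_mem' := by
    intro x y hx hy
    have h2 : ∀ z : X, z * C0 = C0 ^ 2 * z → z * C0 ^ 2 = C0 * z := fun z hz => by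
      rw [pow_two, ← mul_assoc, hz, mul_assoc, hz, ← mul_assoc, ← pow_add,
        pow_mod_three C0_pow_three, pow_one]
    rcases hx with hx | hx <;> rcases hy with hy | hy
    · exact Or.inl (by rw [mul_assoc, hy, ← mul_assoc, hx, mul_assoc])
    · refine Or.inr ?_
      rw [mul_assoc, hy, ← mul_assoc, (Commute.pow_right (show Commute x C0 from hx) 2).eq, mul_assoc]
    · exact Or.inr (by rw [mul_assoc, hy, ← mul_assoc, hx, mul_assoc])
    · refine Or.inl ?_
      rw [mul_assoc, hy, ← mul_assoc, h2 x hx, mul_assoc]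
  inv_mem' := by
    intro x hx
    rcases hx with hx | hx
    · exact Or.inl (Commute.inv_left (show Commute x C0 from hx)).eq
    · refine Or.inr ?_
      have h2 : x * C0 ^ 2 = C0 * x := by
        rw [pow_two, ← mul_assoc, hx, mul_assoc, hx, ← mul_assoc, ← pow_add,
          pow_mod_three C0_pow_three, pow_one]
      calc x⁻¹ * C0 = x⁻¹ * (C0 * x) * x⁻¹ := by group
        _ = C0 ^ 2 * x⁻¹ := by rw [← h2]; group

theorem mem_NX {x : X} : x ∈ NX ↔ x * C0 = C0 * x ∨ x * C0 = C0 ^ 2 * x := Iff.rfl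

theorem card_mat_NX : Fintype.card {M : M2 // d2 M ≠ 0 ∧
    (M * (C0 : M2) = (C0 : M2) * M ∨ M * (C0 : M2) = ((C0 ^ 2 : X) : M2) * M)} = 12 := by
  decide +kernel

theorem card_NX : Nat.card NX = 12 := by
  haveI : Fact (Nat.Prime 3) := ⟨Nat.prime_three⟩
  rw [← card_mat_NX, ← Nat.card_eq_fintype_card]
  refine Nat.card_congr
    { toFun := fun x => ⟨((x : X) : M2), d2_coe_ne_zero _,
        x.2.imp (fun h => congrArg Units.val h) (fun h => congrArg Units.val h)⟩
      invFun := fun M => ⟨Matrix.GeneralLinearGroup.mkOfDetNeZero M.1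
          (by rw [Matrix.det_fin_two]; exact M.2.1),
        M.2.2.imp (fun h => Units.ext h) (fun h => Units.ext h)⟩
      left_inv := fun x => Subtype.ext (Units.ext rfl)
      right_inv := fun M => Subtype.ext rfl }

end Cfsg.Agent.L33Rec

namespace Cfsg.Agent.GL23Inv

open Subgroup Cfsg.Agent.Involution Cfsg.Agent.L33Rec

namespace Setup

variable {G : Type*} [Group G] (S : Setup G)

/-- The element of order three. -/
def c : G := S.φ C0

/-- An involution inverting `c`. -/
def w : G := S.φ D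

theorem c_pow_three : S.c ^ 3 = 1 := by rw [c, ← map_pow, C0_pow_three, map_one]

theorem c_ne_one : S.c ≠ 1 := fun h => C0_ne_one (S.inj (h.trans (map_one _).symm))

theorem orderOf_c : orderOf S.c = 3 := by
  haveI : Fact (Nat.Prime 3) := ⟨Nat.prime_three⟩
  exact orderOf_eq_prime S.c_pow_three S.c_ne_one

theorem c_comm_t : S.c * S.t = S.t * S.c := by rw [c, ← S.φN, ← map_mul, ← map_mul, N_C0]

theorem w_mul_self : S.w * S.w = 1 := by rw [w, ← map_mul, D_mul_self, map_one]

theorem orderOf_w : orderOf S.w = 2 := by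
  haveI : Fact (Nat.Prime 2) := ⟨Nat.prime_two⟩
  exact orderOf_eq_prime (by rw [pow_two]; exact S.w_mul_self)
    (fun h => D_ne_one (S.inj (h.trans (map_one _).symm)))

theorem w_comm_t : S.w * S.t = S.t * S.w := by rw [w, ← S.φN, ← map_mul, ← map_mul, N_D]

theorem w_ne_t : S.w ≠ S.t := fun h => D_ne_N (S.inj (h.trans S.φN.symm))

theorem w_conj_c : S.w * S.c * S.w = S.c⁻¹ := by
  refine (inv_eq_of_mul_eq_one_right ?_).symm
  rw [w, c, ← map_mul, ← map_mul, ← map_mul, D_C0, mul_assoc (C0 ^ 2), D_mul_self, mul_one,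
    ← pow_succ', C0_pow_three, map_one]

theorem e_not_comm_c : S.e * S.c ≠ S.c * S.e := fun h => by
  rw [e, c, ← map_mul, ← map_mul] at h
  exact E_C0_ne (congrArg Units.val (S.inj h))

/-- Elements of `C(t)` centralising `c`. -/
theorem cent_t_c {g : G} (hg : g * S.t = S.t * g) (hgc : g * S.c = S.c * g) :
    ∃ i : ℕ, g = S.c ^ i ∨ g = S.t * S.c ^ i := by
  obtain ⟨x, rfl⟩ := S.exists_φ (mem_centralizer_singleton.mpr hg)
  rw [c, ← map_mul, ← map_mul] at hgc
  obtain ⟨i, h | h⟩ := mat_cent_C0 (x : M2) (d2_coe_ne_zero x) (congrArg Units.val (S.inj hgc))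
  · exact ⟨i, Or.inl (by rw [c, ← map_pow, Units.ext h])⟩
  · exact ⟨i, Or.inr (by rw [c, ← map_pow, ← S.φN, ← map_mul, Units.ext h])⟩

/-- Elements of `C(t)` centralising `w`. -/
theorem cent_t_w {g : G} (hg : g * S.t = S.t * g) (hgw : g * S.w = S.w * g) :
    g = 1 ∨ g = S.t ∨ g = S.w ∨ g = S.t * S.w := by
  obtain ⟨x, rfl⟩ := S.exists_φ (mem_centralizer_singleton.mpr hg)
  rw [w, ← map_mul, ← map_mul] at hgw
  rcases mat_cent_D (x : M2) (d2_coe_ne_zero x) (congrArg Units.val (S.inj hgw))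
    with h | h | h | h
  · exact Or.inl (by rw [show x = 1 from Units.ext h, map_one])
  · exact Or.inr (Or.inl (by rw [Units.ext h, S.φN]))
  · exact Or.inr (Or.inr (Or.inl (by rw [w, Units.ext h])))
  · exact Or.inr (Or.inr (Or.inr (by rw [w, Units.ext h, map_mul, S.φN])))

theorem commute_cent_t {x : G} (hx : x ∈ centralizer ({S.t} : Set G)) : x * S.t = S.t * x :=
  mem_centralizer_singleton.mp hx

/-- Elements of order three in `C(t)` are conjugate to `c`. -/
theorem conj_c_of_cent_t {g : G} (hg : g * S.t = S.t * g) (h3 : g ^ 3 = 1) (h1 : g ≠ 1) :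
    IsConj g S.c := by
  haveI : Fact (Nat.Prime 3) := ⟨Nat.prime_three⟩
  obtain ⟨x, rfl⟩ := S.exists_φ (mem_centralizer_singleton.mpr hg)
  have hx3 : x * x * x = 1 := S.inj (by rw [map_mul, map_mul, map_one, ← h3, pow_succ, pow_two])
  have hx1 : x ≠ 1 := fun h => h1 (by rw [h, map_one])
  obtain ⟨p, q, r, s, hd, hW⟩ := mat_three_conj (x : M2) (d2_coe_ne_zero x)
    (congrArg Units.val hx3) (fun h => hx1 (Units.ext h))
  generalize !![p, q; r, s] = M at hd hW
  let y : X := Matrix.GeneralLinearGroup.mkOfDetNeZero M (by rw [Matrix.det_fin_two]; exact hd)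
  have hy : y * x = C0 * y := Units.ext hW
  refine isConj_iff.mpr ⟨S.φ y, ?_⟩
  rw [conj_eq_iff, c, ← map_mul, ← map_mul, hy]

variable [Finite G]

/-- Elements of order three centralised by an involution are conjugate to `c`. -/
theorem conj_c_of_comm_invol (hno : ∀ N : Subgroup G, N.Normal → N.index ≠ 2) {v g : G}
    (hv : orderOf v = 2) (hgv : g * v = v * g) (h3 : g ^ 3 = 1) (h1 : g ≠ 1) :
    IsConj g S.c := by
  obtain ⟨r, rfl⟩ := isConj_iff.mp (S.conj_invol_of_noIndexTwo hno hv)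
  have hg' : IsConj (r⁻¹ * g * r) g := isConj_iff.mpr ⟨r, by group⟩
  refine hg'.symm.trans (S.conj_c_of_cent_t ?_ ?_ ?_)
  · calc r⁻¹ * g * r * S.t = r⁻¹ * (g * (r * S.t * r⁻¹)) * r := by group
      _ = r⁻¹ * (r * S.t * r⁻¹ * g) * r := by rw [hgv]
      _ = S.t * (r⁻¹ * g * r) := by group
  · have : (r⁻¹ * g * r) ^ 3 = r⁻¹ * g ^ 3 * r := by simp only [pow_succ, pow_zero]; group
    rw [this, h3, mul_one, inv_mul_cancel]
  · intro h
    refine h1 ?_
    have := congrArg (fun y => r * y * r⁻¹) h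
    simpa [mul_assoc] using this

include S in
/-- A subgroup of `3`-power order centralised by an involution has order at most three. -/
theorem card_le_three (hno : ∀ N : Subgroup G, N.Normal → N.index ≠ 2) {v : G}
    (hv : orderOf v = 2) {K : Subgroup G} (hK : K ≤ centralizer ({v} : Set G)) {a : ℕ}
    (ha : Nat.card K ∣ 3 ^ a) : Nat.card K ∣ 3 := by
  obtain ⟨r, rfl⟩ := isConj_iff.mp (S.conj_invol_of_noIndexTwo hno hv)
  have h := card_dvd_of_le hK
  rw [card_centralizer_conj', S.card_H, show 48 = 16 * 3 from rfl] at h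
  have hcop : Nat.Coprime (Nat.card K) 16 :=
    Nat.Coprime.coprime_dvd_left ha (Nat.Coprime.pow_left a (by norm_num))
  exact hcop.dvd_of_dvd_mul_left h

end Setup

end Cfsg.Agent.GL23Inv
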