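import Cfsg.Agent.GL23Inv.Main
import Cfsg.Prelude.Def_Transfer
import Mathlib.GroupTheory.Sylow

/-!
# A group without a quotient of order two with an involution centraliser `GL(2,3)` is simple
-/

set_option autoImplicit false
set_option linter.unusedSectionVars false

namespace Cfsg.Agent.L33Rec

open Subgroup Cfsg.Agent.GL23Inv Cfsg.Agent.Involution

/-- A monomial involution of `GL(2,3)`. -/
def W : X := ⟨!![0, 1; 1, 0], !![0, 1; 1, 0], by decide, by decide⟩

/-- A diagonal involution of `GL(2,3)`. -/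
def D : X := ⟨!![1, 0; 0, 2], !![1, 0; 0, 2], by decide, by decide⟩

theorem W_mul_self : W * W = 1 := by apply Units.ext; decide +kernel

theorem D_mul_self : D * D = 1 := by apply Units.ext; decide +kernel

theorem W_D_U : W * D * U = E := by apply Units.ext; decide +kernel

theorem U_D : U * D = G6 ^ 2 := by apply Units.ext; decide +kernel

theorem NU_mul_self : (N * U) * (N * U) = 1 := by apply Units.ext; decide +kernel

theorem NU_ne_one : N * U ≠ 1 := fun h => by
  have := congrArg (fun g : X => (g : M2) 0 0) h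
  revert this; decide +kernel

theorem mat_no_normal_three : ∀ M : M2, d2 M ≠ 0 → M * M * M = 1 → M ≠ 1 →
    (E : M2) * M ≠ M * (E : M2) ∧ (E : M2) * M ≠ M * M * (E : M2) :=
  forall_matrix (by decide +kernel)

theorem noIndexTwo_of_pResidual {G : Type*} [Group G] (hO : Cfsg.pResidual 2 G = ⊤)
    (N : Subgroup G) (hN : N.Normal) : N.index ≠ 2 := by
  intro h2
  have hle : Cfsg.pResidual 2 G ≤ N := by
    refine (closure_le N).mpr fun g (hg : Nat.Coprime (orderOf g) 2) => ?_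
    obtain ⟨k, hk⟩ : Odd (orderOf g) := Nat.coprime_two_right.mp hg
    have h1 : g * (g * g) ^ k = 1 := by
      rw [← pow_two, ← pow_mul, ← pow_succ', ← hk, pow_orderOf_eq_one]
    have h3 : (g * g) ^ k ∈ N := pow_mem (mul_self_mem_of_index_two h2 g) k
    rw [SetLike.mem_coe, eq_inv_of_mul_eq_one_left h1]
    exact inv_mem h3
  rw [hO, top_le_iff] at hle
  rw [hle, index_top] at h2
  omega

end Cfsg.Agent.L33Rec

namespace Cfsg.Agent.GL23Inv

open Subgroup Cfsg.Agent.Involution Cfsg.Agent.L33Rec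

namespace Setup

variable {G : Type*} [Group G] (S : Setup G) [Finite G]

theorem conj_invol_of_noIndexTwo (hno : ∀ N : Subgroup G, N.Normal → N.index ≠ 2) {x : G}
    (hx : orderOf x = 2) : IsConj S.t x := by
  haveI : Fact (Nat.Prime 2) := ⟨Nat.prime_two⟩
  obtain ⟨P, hP⟩ := S.exists_sylow
  have hu1 : S.u ≠ 1 := fun h => S.u_notMem_e 0 (by rw [h, pow_zero])
  have hu2 : orderOf S.u = 2 := orderOf_eq_prime (by rw [pow_two]; exact S.u_mul_self) hu1
  -- involutions of the Sylow subgroup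
  have hinv : ∀ g ∈ S.syl, orderOf g = 2 → g = S.t ∨ ∃ i, g = S.u * S.e ^ (2 * i) := by
    rintro g ⟨i, rfl | rfl⟩ hg
    · left
      rw [← S.e_pow_four, e_pow_eq_iff]
      have h1 := pow_orderOf_eq_one (S.e ^ i)
      rw [hg, ← pow_mul, ← pow_zero S.e, e_pow_eq_iff] at h1
      have h2 : i % 8 ≠ 0 := fun h => by
        rw [e_pow_mod, h, pow_zero, orderOf_one] at hg; omega
      omega
    · rcases Nat.mod_two_eq_zero_or_one i with h | h
      · exact Or.inr ⟨i / 2, by rw [show 2 * (i / 2) = i by omega]⟩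
      · exfalso
        have h1 := mul_self_of_orderOf hg
        rw [mul_assoc, ← mul_assoc (S.e ^ i), u_e_mul, mul_assoc, ← mul_assoc S.u, u_mul_self,
          one_mul, ← pow_add, ← pow_zero S.e, e_pow_eq_iff] at h1
        omega
  -- the quaternion subgroup of index two
  let Q : Subgroup G :=
    { carrier := {g | ∃ i : ℕ, (g = S.e ^ i ∧ i % 2 = 0) ∨ (g = S.u * S.e ^ i ∧ i % 2 = 1)}
      one_mem' := ⟨0, Or.inl ⟨(pow_zero _).symm, rfl⟩⟩
      mul_mem' := by
        rintro a b ⟨i, ⟨rfl, hi⟩ | ⟨rfl, hi⟩⟩ ⟨j, ⟨rfl, hj⟩ | ⟨rfl, hj⟩⟩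
        · exact ⟨i + j, Or.inl ⟨(pow_add _ _ _).symm, by omega⟩⟩
        · exact ⟨3 * i + j, Or.inr ⟨by rw [← mul_assoc, u_e_mul, mul_assoc, pow_add], by omega⟩⟩
        · exact ⟨i + j, Or.inr ⟨by rw [mul_assoc, pow_add], by omega⟩⟩
        · refine ⟨3 * i + j, Or.inl ⟨?_, by omega⟩⟩
          rw [mul_assoc, ← mul_assoc (S.e ^ i), u_e_mul, mul_assoc, ← mul_assoc S.u, u_mul_self,
            one_mul, pow_add]
      inv_mem' := by
        rintro a ⟨i, ⟨rfl, hi⟩ | ⟨rfl, hi⟩⟩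
        · refine ⟨7 * i, Or.inl ⟨inv_eq_of_mul_eq_one_right ?_, by omega⟩⟩
          rw [← pow_add, e_pow_mod, show (i + 7 * i) % 8 = 0 by omega, pow_zero]
        · refine ⟨5 * i, Or.inr ⟨inv_eq_of_mul_eq_one_right ?_, by omega⟩⟩
          rw [mul_assoc, ← mul_assoc (S.e ^ i), u_e_mul, mul_assoc, ← mul_assoc S.u, u_mul_self,
            one_mul, ← pow_add, e_pow_mod, show (3 * i + 5 * i) % 8 = 0 by omega, pow_zero] }
  have hQmem : ∀ {g : G}, g ∈ Q ↔
      ∃ i : ℕ, (g = S.e ^ i ∧ i % 2 = 0) ∨ (g = S.u * S.e ^ i ∧ i % 2 = 1) := Iff.rfl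
  have hQu : ∀ i, i % 2 = 0 → S.u * S.e ^ i ∉ Q := by
    intro i hi hmem
    obtain ⟨j, ⟨hj, hj2⟩ | ⟨hj, hj2⟩⟩ := hQmem.mp hmem
    · refine S.u_notMem_e (j + 7 * i) ?_
      rw [pow_add, ← hj, mul_assoc, ← pow_add, S.e_pow_mod, show (i + 7 * i) % 8 = 0 by omega,
        pow_zero, mul_one]
    · have := (S.e_pow_eq_iff _ _).mp (mul_left_cancel hj)
      omega
  have hrel : Q.relIndex (P : Subgroup G) = 2 := by
    rw [hP, relIndex]
    refine index_eq_two_iff.mpr ⟨⟨S.u, 0, Or.inr (by rw [pow_zero, mul_one])⟩, fun b => ?_⟩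
    obtain ⟨b, hb⟩ := b
    simp only [mem_subgroupOf, MulMemClass.coe_mul]
    have hu0 : S.u ∉ Q := by simpa using hQu 0 rfl
    obtain ⟨i, rfl | rfl⟩ := hb
    · rcases Nat.mod_two_eq_zero_or_one i with h | h
      · refine Or.inr ⟨hQmem.mpr ⟨i, Or.inl ⟨rfl, h⟩⟩, ?_⟩
        rw [u_e_mul]; exact hQu _ (by omega)
      · refine Or.inl ⟨hQmem.mpr ⟨3 * i, Or.inr ⟨S.u_e_mul i, by omega⟩⟩, fun hm => ?_⟩
        obtain ⟨j, ⟨hj, hj2⟩ | ⟨hj, hj2⟩⟩ := hQmem.mp hm
        · have := (S.e_pow_eq_iff _ _).mp hj; omega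
        · refine S.u_notMem_e (i + 7 * j) ?_
          rw [pow_add, hj, mul_assoc, ← pow_add, S.e_pow_mod, show (j + 7 * j) % 8 = 0 by omega,
            pow_zero, mul_one]
    · have hcomp : S.u * S.e ^ i * S.u = S.e ^ (3 * i) := by
        conv_lhs => rw [← S.u_inv]
        nth_rw 2 [S.u_inv]
        rw [← u_conj_pow, u_inv]
      rw [hcomp]
      rcases Nat.mod_two_eq_zero_or_one i with h | h
      · exact Or.inl ⟨hQmem.mpr ⟨3 * i, Or.inl ⟨rfl, by omega⟩⟩, hQu i h⟩
      · refine Or.inr ⟨hQmem.mpr ⟨i, Or.inr ⟨rfl, h⟩⟩, fun hm => ?_⟩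
        obtain ⟨j, ⟨hj, hj2⟩ | ⟨hj, hj2⟩⟩ := hQmem.mp hm
        · have := (S.e_pow_eq_iff _ _).mp hj; omega
        · refine S.u_notMem_e (3 * i + 7 * j) ?_
          rw [pow_add, hj, mul_assoc, ← pow_add, S.e_pow_mod, show (j + 7 * j) % 8 = 0 by omega,
            pow_zero, mul_one]
  have hut : IsConj S.t S.u := by
    by_contra hne
    obtain ⟨N, hN, hN2, -⟩ := InvChar68.thompson_transfer P Q hrel hu2
      (by rw [hP]; exact ⟨0, Or.inr (by rw [pow_zero, mul_one])⟩)
      (fun g hg hgQ => by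
        rw [hP] at hg
        have ho : orderOf (g * S.u * g⁻¹) = 2 := by
          rw [← MulAut.conj_apply, MulEquiv.orderOf_eq, hu2]
        rcases hinv _ hg ho with h | ⟨i, h⟩
        · exact hne (isConj_iff.mpr ⟨g, h⟩).symm
        · rw [h] at hgQ; exact hQu _ (by omega) hgQ)
    exact hno N hN hN2
  obtain ⟨g, hg⟩ : ∃ g : G, g * x * g⁻¹ ∈ (P : Subgroup G) := by
    have hp : IsPGroup 2 (zpowers x) := IsPGroup.of_card (n := 1) (by rw [Nat.card_zpowers, hx]; rfl)
    obtain ⟨P', hP'⟩ := hp.exists_le_sylow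
    obtain ⟨g, hg⟩ := MulAction.exists_smul_eq G P' P
    refine ⟨g, ?_⟩
    rw [← hg]
    exact ⟨x, hP' (mem_zpowers x), rfl⟩
  rw [hP] at hg
  have hc : IsConj x (g * x * g⁻¹) := isConj_iff.mpr ⟨g, rfl⟩
  rcases hinv _ hg (by rw [← MulAut.conj_apply, MulEquiv.orderOf_eq, hx]) with h | ⟨i, h⟩
  · rw [h] at hc; exact hc.symm
  · rw [h] at hc
    exact hut.trans ((S.isConj_u_even i).trans hc.symm)

include S

theorem normalizer_syl_le : normalizer ((S.syl : Subgroup G) : Set G) ≤ centralizer ({S.t} : Set G) := by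
  intro g hg
  have hconj := mem_normalizer_iff.mp hg
  set w : G := g * S.t * g⁻¹ with hw
  have htS : S.t ∈ S.syl := ⟨4, Or.inl S.e_pow_four.symm⟩
  have hwS : w ∈ S.syl := (hconj S.t).mp htS
  have hw2 : orderOf w = 2 := by rw [hw, ← MulAut.conj_apply, MulEquiv.orderOf_eq, S.ht]
  have hwc : ∀ y ∈ S.syl, y * w = w * y := by
    intro y hy
    have hy' : g⁻¹ * y * g ∈ S.syl := by
      refine (hconj _).mpr ?_
      simpa [mul_assoc] using hy
    have h1 : g⁻¹ * y * g * S.t = S.t * (g⁻¹ * y * g) :=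
      mem_centralizer_singleton.mp (S.syl_le hy')
    rw [hw]
    calc y * (g * S.t * g⁻¹) = g * (g⁻¹ * y * g * S.t) * g⁻¹ := by group
      _ = g * (S.t * (g⁻¹ * y * g)) * g⁻¹ := by rw [h1]
      _ = g * S.t * g⁻¹ * y := by group
  obtain ⟨i, hi⟩ := S.mem_zpowers_of_comm_e2 (S.syl_le hwS) (hwc _ ⟨2, Or.inl rfl⟩).symm
  have hwt : w = S.t := by
    rw [hi, ← S.e_pow_four, e_pow_eq_iff]
    have h1 : w ^ 2 = 1 := by rw [← hw2]; exact pow_orderOf_eq_one w
    rw [hi, ← pow_mul, ← pow_zero S.e, e_pow_eq_iff] at h1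
    have h2 : i % 8 ≠ 0 := fun h => by
      rw [hi, e_pow_mod, h, pow_zero, orderOf_one] at hw2; omega
    omega
  refine mem_centralizer_singleton.mpr ?_
  exact mul_inv_eq_iff_eq_mul.mp (hw ▸ hwt)

theorem invol_mem_of_normal (hno : ∀ N : Subgroup G, N.Normal → N.index ≠ 2) {K : Subgroup G}
    (hK : K.Normal) {a : G} (ha : a ∈ K) (ha2 : orderOf a = 2) {x : G} (hx : orderOf x = 2) :
    x ∈ K := by
  obtain ⟨g, rfl⟩ := isConj_iff.mp
    ((S.conj_invol_of_noIndexTwo hno ha2).symm.trans (S.conj_invol_of_noIndexTwo hno hx))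
  exact hK.conj_mem a ha g

theorem H_le_of_invol_mem {K : Subgroup G} (h : ∀ x, orderOf x = 2 → x ∈ K) :
    centralizer ({S.t} : Set G) ≤ K := by
  haveI : Fact (Nat.Prime 2) := ⟨Nat.prime_two⟩
  have hφ : ∀ x : X, x * x = 1 → S.φ x ∈ K := fun x hx => by
    rcases eq_or_ne (S.φ x) 1 with h1 | h1
    · rw [h1]; exact one_mem K
    · exact h _ (orderOf_eq_prime (by rw [pow_two, ← map_mul, hx, map_one]) h1)
  have he : S.e ∈ K := by
    rw [e, ← W_D_U, map_mul, map_mul]
    exact mul_mem (mul_mem (hφ _ W_mul_self) (hφ _ D_mul_self)) (hφ _ U_mul_self)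
  have hsyl : S.syl ≤ K := by
    rintro g ⟨i, rfl | rfl⟩
    · exact pow_mem he i
    · exact mul_mem (hφ _ U_mul_self) (pow_mem he i)
  have h3 : S.g6 ^ 2 ∈ K := by
    rw [g6, ← map_pow, ← U_D, map_mul]
    exact mul_mem (hφ _ U_mul_self) (hφ _ D_mul_self)
  set H := centralizer ({S.t} : Set G) with hH
  have h3H : S.g6 ^ 2 ∈ H := pow_mem (S.φ_mem _) 2
  have d16 : 16 ∣ Nat.card (H ⊓ K : Subgroup G) := by
    rw [← S.card_syl]; exact card_dvd_of_le (le_inf S.syl_le hsyl)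
  have d3 : 3 ∣ Nat.card (H ⊓ K : Subgroup G) := by
    have ho : orderOf (S.g6 ^ 2) = 3 := by
      rw [orderOf_pow, S.orderOf_g6]; rfl
    rw [← ho, ← Nat.card_zpowers]
    exact card_dvd_of_le (zpowers_le.mpr (mem_inf.mpr ⟨h3H, h3⟩))
  have d48 : 48 ∣ Nat.card (H ⊓ K : Subgroup G) :=
    (show Nat.Coprime 16 3 by decide).mul_dvd_of_dvd_of_dvd d16 d3
  have : H ⊓ K = H := eq_of_le_of_card_ge inf_le_left (by
    rw [hH, S.card_H]; exact Nat.le_of_dvd Nat.card_pos d48)
  exact inf_eq_left.mp this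

theorem cent_t_odd_normal {K : Subgroup G} (hK : K.Normal) (hodd : Odd (Nat.card K))
    {n : G} (hn : n ∈ K) (hnt : n * S.t = S.t * n) : n = 1 := by
  set L : Subgroup G := K ⊓ centralizer ({S.t} : Set G) with hL
  have hLodd : Odd (Nat.card L) := hodd.of_dvd_nat (card_dvd_of_le inf_le_left)
  have hL48 : Nat.card L ∣ 16 * 3 := by
    have := card_dvd_of_le (inf_le_right : L ≤ centralizer ({S.t} : Set G))
    rwa [S.card_H] at this
  have hcop : Nat.Coprime (Nat.card L) 16 :=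
    Nat.Coprime.pow_right 4 (Nat.coprime_two_right.mpr hLodd)
  have hL3 : Nat.card L ∣ 3 := hcop.dvd_of_dvd_mul_left hL48
  have hnL : n ∈ L := mem_inf.mpr ⟨hn, mem_centralizer_singleton.mpr hnt⟩
  have hn3 : n ^ 3 = 1 := orderOf_dvd_iff_pow_eq_one.mp
    ((orderOf_dvd_natCard L hnL).trans hL3)
  by_contra hn1
  obtain ⟨x, hx⟩ := S.exists_φ (mem_inf.mp hnL).2
  have hx3 : x * x * x = 1 := S.inj (by rw [map_mul, map_mul, map_one, hx, ← hn3, pow_succ, pow_two])
  have hx1 : x ≠ 1 := fun h => hn1 (by rw [← hx, h, map_one])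
  obtain ⟨hne1, hne2⟩ := mat_no_normal_three (x : M2) (d2_coe_ne_zero x) (congrArg Units.val hx3)
    (fun h => hx1 (Units.ext h))
  -- the conjugate by `e` lies in the subgroup of order three generated by `n`
  have hem : S.e * n * S.e⁻¹ ∈ L := mem_inf.mpr ⟨hK.conj_mem _ hn _,
    mul_mem (mul_mem (S.φ_mem _) (mem_inf.mp hnL).2) (inv_mem (S.φ_mem _))⟩
  have ho : orderOf n = 3 := orderOf_eq_prime hn3 hn1
  have hz : zpowers n = L := eq_of_le_of_card_ge (zpowers_le.mpr hnL) (by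
    rw [Nat.card_zpowers, ho]; exact Nat.le_of_dvd (by norm_num) hL3)
  classical
  rw [← hz, mem_zpowers_iff_mem_range_orderOf, ho] at hem
  simp only [Finset.mem_image, Finset.mem_range] at hem
  obtain ⟨k, hk, hk2⟩ := hem
  have hk3 : S.e * n = n ^ k * S.e := by rw [hk2]; group
  rw [e, ← hx, ← map_pow, ← map_mul, ← map_mul] at hk3
  have hk5 := S.inj hk3
  interval_cases k
  · rw [pow_zero, one_mul, mul_eq_left] at hk5
    exact hx1 hk5
  · rw [pow_one] at hk5
    exact hne1 (congrArg Units.val hk5)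
  · rw [pow_two] at hk5
    exact hne2 (congrArg Units.val hk5)

theorem cent_invol_odd_normal (hno : ∀ N : Subgroup G, N.Normal → N.index ≠ 2) {K : Subgroup G}
    (hK : K.Normal) (hodd : Odd (Nat.card K)) {v : G} (hv : orderOf v = 2)
    {n : G} (hn : n ∈ K) (hnv : n * v = v * n) : n = 1 := by
  obtain ⟨g, rfl⟩ := isConj_iff.mp (S.conj_invol_of_noIndexTwo hno hv)
  have h := S.cent_t_odd_normal hK hodd (n := g⁻¹ * n * g)
    (by simpa using hK.conj_mem n hn g⁻¹)
    (by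
      calc g⁻¹ * n * g * S.t = g⁻¹ * (n * (g * S.t * g⁻¹)) * g := by group
        _ = g⁻¹ * (g * S.t * g⁻¹ * n) * g := by rw [hnv]
        _ = S.t * (g⁻¹ * n * g) := by group)
  have := congrArg (fun z => g * z * g⁻¹) h
  simpa [mul_assoc] using this

/-- An involution without fixed points on a finite normal subgroup inverts it. -/
theorem inverts_of_fixedPointFree {K : Subgroup G} (hK : K.Normal) {v : G}
    (hv : orderOf v = 2) (hfix : ∀ n ∈ K, n * v = v * n → n = 1) {m : G} (hm : m ∈ K) :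
    v * m * v = m⁻¹ := by
  have hvv : v * v = 1 := Cfsg.Agent.Involution.mul_self_of_orderOf hv
  have hvi : v⁻¹ = v := inv_eq_of_mul_eq_one_right hvv
  have hc : ∀ n ∈ K, v * n * v ∈ K := fun n hn => by
    have := hK.conj_mem n hn v; rwa [hvi] at this
  let f : K → K := fun n => ⟨(n : G)⁻¹ * (v * n * v), mul_mem (inv_mem n.2) (hc _ n.2)⟩
  have hf : Function.Injective f := fun a b hab => by
    have h : (a : G)⁻¹ * (v * a * v) = (b : G)⁻¹ * (v * b * v) := congrArg Subtype.val hab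
    have h1 : ((b : G) * (a : G)⁻¹) * v = v * ((b : G) * (a : G)⁻¹) := by
      calc ((b : G) * (a : G)⁻¹) * v
          = (b : G) * ((a : G)⁻¹ * (v * a * v)) * v * (a : G)⁻¹ * (v * v) := by
            simp only [mul_assoc]
            rw [hvv]
            simp only [mul_one]
            rw [← mul_assoc v v, hvv, one_mul]
            rw [mul_inv_cancel, mul_one]
        _ = (b : G) * ((b : G)⁻¹ * (v * b * v)) * v * (a : G)⁻¹ * (v * v) := by rw [h]
        _ = v * ((b : G) * (a : G)⁻¹) := by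
            simp only [mul_assoc, hvv, mul_one, mul_inv_cancel_left]
    have := hfix _ (mul_mem b.2 (inv_mem a.2)) h1
    exact Subtype.ext (mul_inv_eq_one.mp this).symm
  obtain ⟨n, hn⟩ := (Finite.injective_iff_surjective.mp hf) ⟨m, hm⟩
  have hn' : (n : G)⁻¹ * (v * n * v) = m := congrArg Subtype.val hn
  rw [← hn']
  simp only [mul_inv_rev, inv_inv, hvi, mul_assoc]
  simp only [hvv, mul_one]

theorem odd_normal_eq_bot (hno : ∀ N : Subgroup G, N.Normal → N.index ≠ 2) {K : Subgroup G}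
    (hK : K.Normal) (hodd : Odd (Nat.card K)) : K = ⊥ := by
  haveI : Fact (Nat.Prime 2) := ⟨Nat.prime_two⟩
  have hu2 : orderOf S.u = 2 := orderOf_eq_prime (by rw [pow_two]; exact S.u_mul_self)
    (fun h => S.u_notMem_e 0 (by rw [h, pow_zero]))
  have htu : S.t * S.u = S.φ (GL23Inv.N * U) := by rw [map_mul, S.φN, u]
  have htu2 : orderOf (S.t * S.u) = 2 := orderOf_eq_prime
    (by rw [pow_two, htu, ← map_mul, NU_mul_self, map_one])
    (by rw [htu]; exact fun h => NU_ne_one (S.inj (h.trans (map_one _).symm)))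
  have inv_by : ∀ v, orderOf v = 2 → ∀ m ∈ K, v * m * v = m⁻¹ := fun v hv m hm =>
    S.inverts_of_fixedPointFree hK hv (fun n hn hnv => S.cent_invol_odd_normal hno hK hodd hv hn hnv) hm
  refine (eq_bot_iff_forall K).mpr fun m hm => ?_
  refine S.cent_invol_odd_normal hno hK hodd htu2 hm ?_
  have ht' := inv_by _ S.ht m⁻¹ (inv_mem hm)
  have hu' := inv_by _ hu2 m hm
  rw [inv_inv] at ht'
  have key : S.t * S.u * m * (S.u * S.t) = m := by
    calc S.t * S.u * m * (S.u * S.t) = S.t * (S.u * m * S.u) * S.t := by group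
      _ = m := by rw [hu', ht']
  have hi : (S.u * S.t) * (S.t * S.u) = 1 := by
    rw [mul_assoc, ← mul_assoc S.t, Cfsg.Agent.Involution.mul_self_of_orderOf S.ht, one_mul,
      S.u_mul_self]
  calc m * (S.t * S.u) = S.t * S.u * m * (S.u * S.t) * (S.t * S.u) := by rw [key]
    _ = S.t * S.u * m := by rw [mul_assoc _ (S.u * S.t), hi, mul_one]

/-- **Simplicity.** -/
theorem isSimpleGroup (hno : ∀ N : Subgroup G, N.Normal → N.index ≠ 2) : IsSimpleGroup G := by
  haveI : Fact (Nat.Prime 2) := ⟨Nat.prime_two⟩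
  haveI : Nontrivial G := ⟨⟨S.t, 1, S.t_ne_one⟩⟩
  refine ⟨fun K hK => ?_⟩
  rcases Nat.even_or_odd (Nat.card K) with heven | hodd
  · right
    obtain ⟨a, ha2⟩ := exists_prime_orderOf_dvd_card' 2 heven.two_dvd
    have hinv : ∀ x, orderOf x = 2 → x ∈ K := fun x hx =>
      S.invol_mem_of_normal hno hK a.2 (by rw [orderOf_submonoid, ha2]) hx
    have hH := S.H_le_of_invol_mem hinv
    obtain ⟨P, hP⟩ := S.exists_sylow
    have hPK : (P : Subgroup G) ≤ K := hP ▸ S.syl_le.trans hH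
    haveI := hK
    have hF : normalizer (((P : Subgroup G)) : Set G) ⊔ K = ⊤ :=
      Sylow.normalizer_sup_eq_top' P hPK
    rw [hP] at hF
    rw [← top_le_iff, ← hF]
    exact sup_le (S.normalizer_syl_le.trans hH) le_rfl
  · exact Or.inl (S.odd_normal_eq_bot hno hK hodd)

end Setup

end Cfsg.Agent.GL23Inv
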