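import Cfsg.Agent.L33Rec.Card54

/-!
# The Sylow 3-subgroup of `C(c)` is not abelian
-/

set_option autoImplicit false
set_option linter.unusedSectionVars false
set_option maxHeartbeats 1000000

namespace Cfsg.Agent.GL23Inv

open Subgroup Cfsg.Agent.Involution Cfsg.Agent.L33Rec

/-- The four group `{1, t, w, t w}`. -/
def Setup.four {G : Type*} [Group G] (S : Setup G) : Subgroup G where
  carrier := {x | x = 1 ∨ x = S.t ∨ x = S.w ∨ x = S.t * S.w}
  one_mem' := Or.inl rfl
  mul_mem' := by
    have tt : S.t * S.t = 1 := by rw [← pow_two, ← S.ht]; exact pow_orderOf_eq_one _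
    have ww := S.w_mul_self
    have wt := S.w_comm_t
    rintro x y (rfl | rfl | rfl | rfl) (rfl | rfl | rfl | rfl) <;>
      simp only [Set.mem_setOf_eq, mul_assoc, one_mul, mul_one, tt, ww, ← mul_assoc S.t S.t,
        ← mul_assoc S.w S.w] <;>
      simp [wt, mul_assoc, ww, ← mul_assoc S.t S.t, tt, ← mul_assoc S.w S.t]
  inv_mem' := by
    have tt : S.t * S.t = 1 := by rw [← pow_two, ← S.ht]; exact pow_orderOf_eq_one _
    have wi : S.w⁻¹ = S.w := inv_eq_of_mul_eq_one_right S.w_mul_self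
    have ti : S.t⁻¹ = S.t := inv_eq_of_mul_eq_one_right tt
    rintro x (rfl | rfl | rfl | rfl) <;> simp [Set.mem_setOf_eq, wi, ti, S.w_comm_t]

namespace Setup

variable {G : Type*} [Group G] [Finite G] [IsSimpleGroup G] (S : Setup G)
  (hcard : Nat.card G = 5616)

theorem orderOf_tw : orderOf (S.t * S.w) = 2 := by
  haveI : Fact (Nat.Prime 2) := ⟨Nat.prime_two⟩
  refine orderOf_eq_prime ?_ ?_
  · rw [(show Commute S.t S.w from S.w_comm_t.symm).mul_pow, pow_two, pow_two, S.t_mul_self,
      S.w_mul_self, one_mul]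
  · intro h'
    exact S.w_ne_t (by rw [← S.t_inv]; exact (inv_eq_of_mul_eq_one_right h').symm)

theorem tw_comm_t : S.t * S.w * S.t = S.t * (S.t * S.w) := by
  rw [mul_assoc, S.w_comm_t]

theorem tw_conj_c : S.t * S.w * S.c * (S.t * S.w) = S.c⁻¹ := by
  calc S.t * S.w * S.c * (S.t * S.w) = S.t * S.w * S.c * (S.w * S.t) := by rw [S.w_comm_t]
    _ = S.t * (S.w * S.c * S.w) * S.t := by group
    _ = (S.t⁻¹ * S.c * S.t⁻¹)⁻¹ := by rw [S.w_conj_c]; group
    _ = _ := by rw [S.t_inv, S.t_conj_c]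

variable {P : Subgroup G} (hPA : P ≤ centralizer ({S.c} : Set G)) (hP : Nat.card P = 27)

include S hP in
theorem P_odd : Odd (Nat.card P) := by rw [hP]; decide

include hcard hPA hP in
theorem mem_P {y : G} (hy : y ∈ centralizer ({S.c} : Set G)) (ho : Odd (orderOf y)) : y ∈ P :=
  mem_of_odd_of_double hPA (by rw [S.card_cent_c hcard, hP]) hy ho

include hcard hPA hP in
theorem c_mem_P : S.c ∈ P :=
  S.mem_P hcard hPA hP S.c_mem_cent_c (odd_orderOf_pow_three S.c_pow_three)

include hcard hPA hP in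
theorem conj_mem_P {v : G} (hv : v * v = 1) (hvc : v * S.c * v = S.c ∨ v * S.c * v = S.c⁻¹)
    {y : G} (hy : y ∈ P) : v * y * v ∈ P := by
  have hyc : Commute y S.c := mem_centralizer_singleton.mp (hPA hy)
  refine S.mem_P hcard hPA hP (mem_centralizer_singleton.mpr ?_) ?_
  · have : Commute (v * y * v) (v * S.c * v) := by
      show (v * y * v) * (v * S.c * v) = (v * S.c * v) * (v * y * v)
      rw [← conj_t_mul hv, ← conj_t_mul hv, hyc.eq]
    rcases hvc with h | h <;> rw [h] at this
    · exact this.eq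
    · exact (Commute.inv_right_iff.mp this).eq
  · have hvi : v⁻¹ = v := inv_eq_of_mul_eq_one_right hv
    have e : v * y * v = MulAut.conj v y := by rw [MulAut.conj_apply, hvi]
    rw [e, MulEquiv.orderOf_eq]
    exact odd_orderOf_mem (S.P_odd hP) hy

include hcard hPA hP in
/-- An involution in `C(t)` inverting `c` fixes an element of order three outside `⟨c⟩`. -/
theorem exists_fixed {v : G} (hv : orderOf v = 2) (hvt : v * S.t = S.t * v)
    (hvc : v * S.c * v = S.c⁻¹) :
    ∃ a ∈ P, a ^ 3 = 1 ∧ (∀ i : ℕ, a ≠ S.c ^ i) ∧ v * a * v = a ∧ S.t * a * S.t = a⁻¹ ∧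
      IsConj a S.c := by
  have hvv := mul_self_eq_one_of_orderOf hv
  have hcv : ∀ i : ℕ, (S.c ^ i) * v = v * S.c ^ i → S.c ^ i = 1 := fun i h => by
    have h1 : v * S.c ^ i * v = S.c ^ i := by rw [← h, mul_assoc, hvv, mul_one]
    rw [conj_t_pow hvv, hvc] at h1
    have h2 : S.c ^ (2 * i) = 1 := by
      rw [two_mul, pow_add]
      nth_rw 1 [← h1]
      rw [inv_pow, inv_mul_cancel]
    have h2' := orderOf_dvd_of_pow_eq_one h2
    rw [S.orderOf_c] at h2'
    rw [pow_mod_three S.c_pow_three, show i % 3 = 0 by omega, pow_zero]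
  have hPv : ∀ y ∈ P, v * y * v ∈ P := fun y hy => S.conj_mem_P hcard hPA hP hvv (Or.inr hvc) hy
  have hPt : ∀ y ∈ P, S.t * y * S.t ∈ P := fun y hy =>
    S.conj_mem_P hcard hPA hP S.t_mul_self (Or.inl S.t_conj_c) hy
  set L : Subgroup G := P ⊓ centralizer ({v} : Set G) with hL
  have hL3 : Nat.card L ∣ 3 := S.card_le_three S.not_index_two hv inf_le_right (a := 3)
    (by have := card_dvd_of_le (inf_le_left : L ≤ P); rw [hP] at this; exact this)
  by_cases hL1 : ∃ a ∈ L, a ≠ 1
  · obtain ⟨a, haL, ha1⟩ := hL1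
    obtain ⟨haP, hav⟩ := mem_inf.mp haL
    have hav' : a * v = v * a := mem_centralizer_singleton.mp hav
    have ha3 : a ^ 3 = 1 := orderOf_dvd_iff_pow_eq_one.mp ((L.orderOf_dvd_natCard haL).trans hL3)
    have hnc : ∀ i : ℕ, a ≠ S.c ^ i := fun i hi => ha1 (hi.trans (hcv i (hi ▸ hav')))
    have hva : v * a * v = a := by rw [← hav', mul_assoc, hvv, mul_one]
    have htaP : S.t * a * S.t ∈ L := by
      refine mem_inf.mpr ⟨hPt a haP, mem_centralizer_singleton.mpr ?_⟩
      calc S.t * a * S.t * v = S.t * a * (v * S.t) := by rw [mul_assoc, hvt]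
        _ = S.t * (v * a) * S.t := by rw [← hav']; group
        _ = (v * S.t) * a * S.t := by rw [hvt]; group
        _ = v * (S.t * a * S.t) := by group
    have hz : zpowers a = L := eq_of_le_of_card_ge (zpowers_le.mpr haL) (by
      haveI : Fact (Nat.Prime 3) := ⟨Nat.prime_three⟩
      rw [Nat.card_zpowers, orderOf_eq_prime ha3 ha1]
      exact Nat.le_of_dvd (by norm_num) hL3)
    obtain ⟨j, hj'⟩ : ∃ j : ℕ, a ^ j = S.t * a * S.t :=
      Submonoid.mem_powers_iff _ _ |>.mp ((mem_powers_iff_mem_zpowers).mpr (hz.symm ▸ htaP))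
    rw [pow_mod_three ha3] at hj'
    rcases (show j % 3 = 0 ∨ j % 3 = 1 ∨ j % 3 = 2 by omega) with h | h | h <;> rw [h] at hj'
    · refine absurd ?_ ha1
      rw [pow_zero] at hj'
      calc a = (S.t * S.t) * a * (S.t * S.t) := by rw [S.t_mul_self, one_mul, mul_one]
        _ = S.t * (S.t * a * S.t) * S.t := by group
        _ = 1 := by rw [← hj', mul_one, S.t_mul_self]
    · exfalso
      rw [pow_one] at hj'
      obtain ⟨i, hi⟩ := S.eq_pow_c (odd_orderOf_pow_three ha3)
        (by conv_lhs => rw [hj', mul_assoc, S.t_mul_self, mul_one])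
        (mem_centralizer_singleton.mp (hPA haP))
      exact hnc i hi
    · refine ⟨a, haP, ha3, hnc, hva, ?_, ?_⟩
      · rw [← hj']
        exact (inv_eq_of_mul_eq_one_right (by rw [← pow_succ', ha3])).symm
      · exact S.conj_c_of_comm_invol S.not_index_two hv hav' ha3 ha1
  · exfalso
    push Not at hL1
    have hinv : ∀ y ∈ P, v * y * v = y⁻¹ := fun y hy => inverts_of_fixfree hvv hPv
      (fun n hn h => hL1 n (mem_inf.mpr ⟨hn, mem_centralizer_singleton.mpr h⟩)) hy
    have hab : ∀ x ∈ P, ∀ y ∈ P, Commute x y := fun x hx y hy => by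
      have h := hinv _ (mul_mem hx hy)
      rw [conj_t_mul hvv, hinv x hx, hinv y hy, mul_inv_rev] at h
      exact Commute.inv_inv_iff.mp h
    set L' : Subgroup G := P ⊓ centralizer ({S.t * v} : Set G) with hL'
    have hv' : orderOf (S.t * v) = 2 := by
      haveI : Fact (Nat.Prime 2) := ⟨Nat.prime_two⟩
      refine orderOf_eq_prime ?_ fun h => ?_
      · rw [(show Commute S.t v from hvt.symm).mul_pow, pow_two, pow_two, S.t_mul_self, hvv, one_mul]
      · have hvtt : v = S.t := by rw [← S.t_inv]; exact (inv_eq_of_mul_eq_one_right h).symm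
        rw [hvtt, S.t_conj_c] at hvc
        have h2 : S.c ^ 2 = 1 := by rw [pow_two]; nth_rw 1 [hvc]; exact inv_mul_cancel _
        have h2' := orderOf_dvd_of_pow_eq_one h2
        rw [S.orderOf_c] at h2'
        omega
    have hL'3 : Nat.card L' ∣ 3 := S.card_le_three S.not_index_two hv' inf_le_right (a := 3)
      (by have := card_dvd_of_le (inf_le_left : L' ≤ P); rw [hP] at this; exact this)
    -- every square is a product
    have hdec : ∀ x ∈ P, ∃ k ∈ zpowers S.c, ∃ l ∈ L', x ^ 2 = k * l := by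
      intro x hx
      set x' : G := S.t * x * S.t with hx'
      have hx'P : x' ∈ P := hPt x hx
      have htt : S.t * x' * S.t = x := by
        rw [hx']
        calc S.t * (S.t * x * S.t) * S.t = (S.t * S.t) * x * (S.t * S.t) := by group
          _ = x := by rw [S.t_mul_self, one_mul, mul_one]
      refine ⟨x * x', ?_, x * x'⁻¹, mem_inf.mpr ⟨mul_mem hx (inv_mem hx'P), ?_⟩, ?_⟩
      · have h1 : (x * x') * S.t = S.t * (x * x') := by
          have : S.t * (x * x') * S.t = x * x' := by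
            rw [conj_t_mul S.t_mul_self, htt, ← hx', (hab x' hx'P x hx).eq]
          calc x * x' * S.t = S.t * (x * x') * S.t * S.t := by rw [this]
            _ = S.t * (x * x') := by rw [mul_assoc, S.t_mul_self, mul_one]
        obtain ⟨i, hi⟩ := S.eq_pow_c (odd_orderOf_mem (S.P_odd hP) (mul_mem hx hx'P)) h1
          (mem_centralizer_singleton.mp (hPA (mul_mem hx hx'P)))
        exact hi ▸ pow_mem (mem_zpowers _) i
      · refine mem_centralizer_singleton.mpr ?_
        have hy := hinv _ (mul_mem hx (inv_mem hx'P))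
        have hx'i : S.t * x'⁻¹ * S.t = x⁻¹ := by
          calc S.t * x'⁻¹ * S.t = (S.t⁻¹ * x' * S.t⁻¹)⁻¹ := by group
            _ = x⁻¹ := by rw [S.t_inv, htt]
        have e : (S.t * v) * (x * x'⁻¹) * (v * S.t) = x * x'⁻¹ := by
          calc (S.t * v) * (x * x'⁻¹) * (v * S.t) = S.t * (v * (x * x'⁻¹) * v) * S.t := by group
            _ = S.t * (x * x'⁻¹)⁻¹ * S.t := by rw [hy]
            _ = (S.t⁻¹ * (x * x'⁻¹) * S.t⁻¹)⁻¹ := by group
            _ = (x' * x⁻¹)⁻¹ := by rw [S.t_inv, conj_t_mul S.t_mul_self, hx'i, ← hx']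
            _ = x * x'⁻¹ := by rw [mul_inv_rev, inv_inv]
        calc x * x'⁻¹ * (S.t * v) = (S.t * v) * (x * x'⁻¹) * (v * S.t) * (S.t * v) := by rw [e]
          _ = (S.t * v) * (x * x'⁻¹) * (v * (S.t * S.t) * v) := by group
          _ = (S.t * v) * (x * x'⁻¹) := by rw [S.t_mul_self, mul_one, hvv, mul_one]
      · calc x ^ 2 = x * x * (x' * x'⁻¹) := by rw [mul_inv_cancel, mul_one, pow_two]
          _ = x * (x * x') * x'⁻¹ := by group
          _ = x * (x' * x) * x'⁻¹ := by rw [(hab x hx x' hx'P).eq]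
          _ = x * x' * (x * x'⁻¹) := by group
    let f : zpowers S.c × L' → P := fun p =>
      ⟨((p.1 : G) * (p.2 : G)) ^ 14, pow_mem (mul_mem
        (zpowers_le.mpr (S.c_mem_P hcard hPA hP) p.1.2) (mem_inf.mp p.2.2).1) 14⟩
    have hf : Function.Surjective f := fun x => by
      obtain ⟨k, hk, l, hl, he⟩ := hdec x x.2
      refine ⟨(⟨k, hk⟩, ⟨l, hl⟩), Subtype.ext ?_⟩
      show (k * l) ^ 14 = (x : G)
      have h27 : (x : G) ^ 27 = 1 := by
        have := P.orderOf_dvd_natCard x.2
        rw [hP] at this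
        exact orderOf_dvd_iff_pow_eq_one.mp this
      rw [← he, ← pow_mul, show 2 * 14 = 27 + 1 from rfl, pow_succ, h27, one_mul]
    have h := Nat.card_le_card_of_surjective f hf
    rw [Nat.card_prod, hP, Nat.card_zpowers, S.orderOf_c] at h
    have := Nat.le_of_dvd (by norm_num) hL'3
    omega

include hcard hPA hP in
theorem exists_conj_to_t {u' : G} (hu : orderOf u' = 2) (huc : u' * S.c = S.c * u') :
    ∃ p ∈ P, p * u' * p⁻¹ = S.t := by
  have hA2 : Nat.card (centralizer ({S.c} : Set G)) = 2 * Nat.card P := by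
    rw [S.card_cent_c hcard, hP]
  have hnotP : ∀ y : G, orderOf y = 2 → y ∉ P := fun y hy hyP => by
    have := P.orderOf_dvd_natCard hyP
    rw [hy, hP] at this
    omega
  have hy : S.t * u' ∈ P := mul_mem_of_double hPA hA2 S.t_mem_cent_c
    (mem_centralizer_singleton.mpr huc) (hnotP _ S.ht) (hnotP _ hu)
  set y : G := S.t * u' with hydef
  have hu' : u' = S.t * y := by rw [hydef, ← mul_assoc, S.t_mul_self, one_mul]
  have hy27 : y ^ 27 = 1 := by
    have := P.orderOf_dvd_natCard hy
    rw [hP] at this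
    exact orderOf_dvd_iff_pow_eq_one.mp this
  have hyt : S.t * y * S.t = y⁻¹ := by
    refine (inv_eq_of_mul_eq_one_right ?_).symm
    calc y * (S.t * y * S.t) = S.t * ((S.t * y) * (S.t * y)) * S.t := by
          calc y * (S.t * y * S.t) = (S.t * S.t) * (y * (S.t * y * S.t)) := by
                rw [S.t_mul_self, one_mul]
            _ = _ := by group
      _ = 1 := by rw [← hu', mul_self_eq_one_of_orderOf hu, mul_one, S.t_mul_self]
  refine ⟨y ^ 14, pow_mem hy 14, ?_⟩
  have hs : S.t * y ^ 14 * S.t = (y ^ 14)⁻¹ := by rw [conj_t_pow S.t_mul_self, hyt, inv_pow]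
  calc y ^ 14 * u' * (y ^ 14)⁻¹ = y ^ 14 * S.t * (y * (y ^ 14)⁻¹) := by rw [hu']; group
    _ = (S.t * S.t) * (y ^ 14 * S.t * (y * (y ^ 14)⁻¹)) := by rw [S.t_mul_self, one_mul]
    _ = S.t * (S.t * y ^ 14 * S.t) * (y * (y ^ 14)⁻¹) := by group
    _ = S.t * ((y ^ 14)⁻¹ * y * (y ^ 14)⁻¹) := by rw [hs]; group
    _ = S.t * y ^ (-27 : ℤ) := by group
    _ = S.t := by rw [zpow_neg]; simp [zpow_ofNat, hy27]

include hcard hPA hP in
theorem not_comm : ¬ ∀ x ∈ P, ∀ y ∈ P, Commute x y := by
  intro hab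
  haveI : Fact (Nat.Prime 2) := ⟨Nat.prime_two⟩
  haveI : Fact (Nat.Prime 3) := ⟨Nat.prime_three⟩
  obtain ⟨a, haP, ha3, hanc, hwa, hta, hac⟩ :=
    S.exists_fixed hcard hPA hP S.orderOf_w S.w_comm_t S.w_conj_c
  obtain ⟨b, hbP, hb3, hbnc, hwb, htb, hbc⟩ :=
    S.exists_fixed hcard hPA hP S.orderOf_tw S.tw_comm_t S.tw_conj_c
  set N : Subgroup G := normalizer (P : Set G) with hN
  set A := centralizer ({S.c} : Set G) with hAdef
  have hA2 : Nat.card A = 2 * Nat.card P := by rw [S.card_cent_c hcard, hP]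
  have hAN : A ≤ N := fun g hg => mem_normalizer_fintype fun y hy =>
    conj_mem_of_double hPA hA2 (S.P_odd hP) (mul_mem (mul_mem hg (hPA hy)) (inv_mem hg)) hy
  have hPN : P ≤ N := hPA.trans hAN
  have hwN : S.w ∈ N := mem_normalizer_fintype fun y hy => by
    rw [inv_eq_of_mul_eq_one_right S.w_mul_self]
    exact S.conj_mem_P hcard hPA hP S.w_mul_self (Or.inr S.w_conj_c) hy
  have mk : ∀ a ∈ P, IsConj a S.c → ∀ v, orderOf v = 2 → v * a * v = a →
      ∃ r ∈ N, r * a * r⁻¹ = S.c ∧ ∃ m ∈ N, m * v * m⁻¹ = S.t := by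
    intro a haP hac v hv hva
    obtain ⟨r, hr⟩ := isConj_iff.mp hac
    have hrN : r ∈ N := mem_normalizer_fintype fun y hy => by
      refine S.mem_P hcard hPA hP (mem_centralizer_singleton.mpr ?_) ?_
      · rw [← hr]
        calc r * y * r⁻¹ * (r * a * r⁻¹) = r * (y * a) * r⁻¹ := by group
          _ = r * (a * y) * r⁻¹ := by rw [(hab y hy a haP).eq]
          _ = r * a * r⁻¹ * (r * y * r⁻¹) := by group
      · rw [← MulAut.conj_apply, MulEquiv.orderOf_eq]
        exact odd_orderOf_mem (S.P_odd hP) hy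
    have hva' : a * v = v * a := by
      conv_lhs => rw [← hva, mul_assoc, mul_self_eq_one_of_orderOf hv, mul_one]
    obtain ⟨p, hp, hp2⟩ := S.exists_conj_to_t hcard hPA hP (u' := r * v * r⁻¹)
      (by rw [← MulAut.conj_apply, MulEquiv.orderOf_eq, hv]) (by
        rw [← hr]
        calc r * v * r⁻¹ * (r * a * r⁻¹) = r * (v * a) * r⁻¹ := by group
          _ = r * (a * v) * r⁻¹ := by rw [hva']
          _ = r * a * r⁻¹ * (r * v * r⁻¹) := by group)
    exact ⟨r, hrN, hr, p * r, mul_mem (hPN hp) hrN, by rw [← hp2]; group⟩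
  obtain ⟨r, hrN, hra, mw, hmwN, hmw⟩ := mk a haP hac _ S.orderOf_w hwa
  obtain ⟨-, -, -, mb, hmbN, hmb⟩ := mk b hbP hbc _ S.orderOf_tw hwb
  have hneq : a ≠ S.c := fun h => hanc 1 (by rw [h, pow_one])
  have hrA : r ∉ A := fun h => hneq (by
    have h' := mem_centralizer_singleton.mp h
    calc a = r⁻¹ * (r * a * r⁻¹) * r := by group
      _ = r⁻¹ * (S.c * r) := by rw [hra]; group
      _ = S.c := by rw [← h']; group)
  have hwA : S.w ∉ A := fun h => by
    have h' := mem_centralizer_singleton.mp h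
    have h1 := S.w_conj_c
    rw [h', mul_assoc, S.w_mul_self, mul_one] at h1
    have h2 : S.c ^ 2 = 1 := by rw [pow_two]; nth_rw 1 [h1]; exact inv_mul_cancel _
    have h2' := orderOf_dvd_of_pow_eq_one h2
    rw [S.orderOf_c] at h2'
    omega
  have hNproper : N ≠ ⊤ := by
    intro htop
    haveI : P.Normal := normalizer_eq_top_iff.mp htop
    rcases (inferInstance : P.Normal).eq_bot_or_eq_top with h | h
    · rw [h, card_bot] at hP; norm_num at hP
    · rw [h, card_top, hcard] at hP; norm_num at hP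
  obtain ⟨Q, hQ⟩ := (IsPGroup.of_card (p := 3) (n := 3) (show Nat.card P = 3 ^ 3 by rw [hP]; rfl)).exists_le_sylow
  have hQP : (Q : Subgroup G) = P := by
    refine (eq_of_le_of_card_ge hQ ?_).symm
    obtain ⟨k, hk⟩ := IsPGroup.iff_card.mp Q.isPGroup'
    have h1 : 3 ^ k ∣ 5616 := hk ▸ hcard ▸ Subgroup.card_subgroup_dvd_card (Q : Subgroup G)
    have hk2 : k < 4 := by
      by_contra hlt
      have : 3 ^ 4 ∣ 5616 := (pow_dvd_pow 3 (not_lt.mp hlt)).trans h1
      revert this; decide
    rw [hk, hP]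
    exact (Nat.pow_le_pow_right (by norm_num) (show k ≤ 3 by omega)).trans le_rfl
  have hn3 : N.index % 3 = 1 := by
    have h1 := card_sylow_modEq_one 3 G
    rw [Q.card_eq_index_normalizer] at h1
    have e : normalizer (Q : Set G) = N := by
      show normalizer ((Q : Subgroup G) : Set G) = _
      rw [hQP]
    rw [e] at h1
    exact h1
  have hn8 := eight_lt_index hcard hNproper
  obtain ⟨k, hk⟩ := S.card_cent_c hcard ▸ card_dvd_of_le hAN
  have hmul : 54 * k * N.index = 5616 := by rw [← hk, card_mul_index, hcard]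
  have hcases : N.index = 13 ∨ N.index = 52 := by
    have hd : N.index ∣ 104 := ⟨k, Nat.eq_of_mul_eq_mul_left (show 0 < 54 by norm_num)
      (by rw [mul_comm N.index k, ← mul_assoc, hmul])⟩
    have hle := Nat.le_of_dvd (by norm_num) hd
    generalize N.index = n at hd hle hn8 hn3
    interval_cases n <;> first | omega | (exfalso; revert hd; decide)
  rcases hcases with hidx | hidx <;> rw [hidx] at hmul
  · -- order 432
    have hN432 : Nat.card N = 432 := by rw [hk]; omega
    have hfour : S.four ≤ N := by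
      rintro x (rfl | rfl | rfl | rfl)
      · exact one_mem N
      · exact hAN S.t_mem_cent_c
      · exact hwN
      · exact mul_mem (hAN S.t_mem_cent_c) hwN
    have hp : IsPGroup 2 (S.four.subgroupOf N) := by
      intro x
      refine ⟨1, ?_⟩
      have hx : ((x : N) : G) ∈ S.four := x.2
      apply Subtype.ext; apply Subtype.ext
      push_cast
      rw [pow_two]
      rcases hx with h | h | h | h <;> rw [h]
      · rw [one_mul]
      · exact S.t_mul_self
      · exact S.w_mul_self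
      · exact mul_self_eq_one_of_orderOf S.orderOf_tw
    obtain ⟨T, hT⟩ := hp.exists_le_sylow
    have hT16 : 2 ^ 4 ∣ Nat.card T := T.pow_dvd_card_of_pow_dvd_card (by rw [hN432]; norm_num)
    have htT : (⟨S.t, hfour (Or.inr (Or.inl rfl))⟩ : N) ∈ (T : Subgroup N) := hT (Or.inr (Or.inl rfl))
    have hwT : (⟨S.w, hfour (Or.inr (Or.inr (Or.inl rfl)))⟩ : N) ∈ (T : Subgroup N) :=
      hT (Or.inr (Or.inr (Or.inl rfl)))
    haveI : Nontrivial (T : Subgroup N) := Finite.one_lt_card_iff_nontrivial.mp (by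
      have := Nat.le_of_dvd Nat.card_pos hT16; norm_num at this; omega)
    haveI := T.isPGroup'.center_nontrivial
    obtain ⟨e, he0, he⟩ := (T.isPGroup'.to_subgroup (center (T : Subgroup N))).nontrivial_iff_card.mp
      inferInstance
    obtain ⟨z, hz⟩ := exists_prime_orderOf_dvd_card' 2
      (show 2 ∣ Nat.card (center (T : Subgroup N)) by rw [he]; exact dvd_pow_self 2 (by omega))
    set z' : G := (((z : (T : Subgroup N)) : N) : G) with hz'
    have hz'2 : orderOf z' = 2 := by
      rw [hz', orderOf_submonoid, orderOf_submonoid, orderOf_submonoid, hz]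
    have hcomm : ∀ y : N, y ∈ (T : Subgroup N) → (y : G) * z' = z' * (y : G) := fun y hy =>
      congrArg (fun x : (T : Subgroup N) => ((x : N) : G)) (mem_center_iff.mp z.2 ⟨y, hy⟩)
    obtain ⟨m, hmN, hm⟩ : ∃ m ∈ N, m * z' * m⁻¹ = S.t := by
      rcases S.cent_t_w (hcomm _ htT).symm (hcomm _ hwT).symm with h | h | h | h
      · rw [h, orderOf_one] at hz'2; omega
      · exact ⟨1, one_mem N, by rw [h, one_mul, inv_one, mul_one]⟩
      · exact ⟨mw, hmwN, h ▸ hmw⟩
      · exact ⟨mb, hmbN, h ▸ hmb⟩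
    have hle : ((T : Subgroup N).map N.subtype).map (MulAut.conj m).toMonoidHom ≤ NX.map S.φ := by
      rintro _ ⟨_, ⟨y, hy, rfl⟩, rfl⟩
      show m * (y : G) * m⁻¹ ∈ _
      have hgt : (m * (y : G) * m⁻¹) * S.t = S.t * (m * (y : G) * m⁻¹) := by
        rw [← hm]
        calc m * (y : G) * m⁻¹ * (m * z' * m⁻¹) = m * ((y : G) * z') * m⁻¹ := by group
          _ = m * (z' * y) * m⁻¹ := by rw [hcomm y hy]
          _ = m * z' * m⁻¹ * (m * (y : G) * m⁻¹) := by group
      obtain ⟨x, hx⟩ := S.exists_φ (mem_centralizer_singleton.mpr hgt)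
      refine ⟨x, ?_, hx⟩
      have hgN : m * (y : G) * m⁻¹ ∈ N := mul_mem (mul_mem hmN y.2) (inv_mem hmN)
      rw [← hx] at hgt hgN
      have hcP' : S.φ x * S.c * (S.φ x)⁻¹ ∈ P :=
        (mem_normalizer_iff.mp hgN S.c).mp (S.c_mem_P hcard hPA hP)
      obtain ⟨i, hi⟩ := S.eq_pow_c (odd_orderOf_mem (S.P_odd hP) hcP') (by
          have h1 : Commute (S.φ x) S.t := hgt
          have h2 : Commute S.c S.t := S.c_comm_t
          exact ((h1.mul_left h2).mul_left h1.inv_left).eq)
        (mem_centralizer_singleton.mp (hPA hcP'))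
      rw [conj_eq_iff, pow_mod_three S.c_pow_three] at hi
      rcases (show i % 3 = 0 ∨ i % 3 = 1 ∨ i % 3 = 2 by omega) with h | h | h <;> rw [h] at hi
      · rw [pow_zero, one_mul, mul_eq_left] at hi
        exact absurd hi S.c_ne_one
      · rw [pow_one, c, ← map_mul, ← map_mul] at hi
        exact Or.inl (S.inj hi)
      · rw [c, ← map_pow, ← map_mul, ← map_mul] at hi
        exact Or.inr (S.inj hi)
    have h12 := card_dvd_of_le hle
    rw [← Nat.card_congr (NX.equivMapOfInjective S.φ S.inj).toEquiv, card_NX,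
      ← Nat.card_congr ((((T : Subgroup N).map N.subtype)).equivMapOfInjective _
        (MulAut.conj m).injective).toEquiv,
      ← Nat.card_congr ((T : Subgroup N).equivMapOfInjective N.subtype N.subtype_injective).toEquiv] at h12
    exact absurd (hT16.trans h12) (by decide)
  · -- order 108
    have hN2 : Nat.card N = 2 * Nat.card A := by rw [hk, S.card_cent_c hcard]; omega
    have h := mul_mem_of_double hAN hN2 hrN hwN hrA hwA
    have h' := mem_centralizer_singleton.mp h
    refine hneq ?_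
    have h1 : r * S.w * S.c * (r * S.w)⁻¹ = r * a * r⁻¹ := by
      rw [h', hra]; group
    have h3 : S.w * S.c * S.w⁻¹ = a := by
      calc S.w * S.c * S.w⁻¹ = r⁻¹ * (r * S.w * S.c * (r * S.w)⁻¹) * r := by group
        _ = a := by rw [h1]; group
    rw [inv_eq_of_mul_eq_one_right S.w_mul_self, S.w_conj_c] at h3
    exact absurd (by rw [← h3, ← pow_two_eq_inv S.c_pow_three]) (hanc 2)
where
  pow_two_eq_inv {x : G} (hx : x ^ 3 = 1) : x ^ 2 = x⁻¹ :=
    (inv_eq_of_mul_eq_one_right (by rw [← pow_succ', hx])).symm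

end Setup

end Cfsg.Agent.GL23Inv
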